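import Mathlib
import Cfsg.Agent.SectRankFour.C2.Fin64_mg
import Cfsg.Agent.MinSimple.CaseOneEnd
import Cfsg.Agent.MinSimple.CaseD9_m3
import Cfsg.Agent.MinSimple.CaseD8
import Cfsg.Agent.ZN.Block
import Cfsg.Agent.TwoFusion.SectionalRank
import Cfsg.Agent.SectRankFour.C2.BThreeF_m3
import Cfsg.Agent.SectRankFour.C2.BTwoCGlue_m3
import Cfsg.Agent.MinSimple.Geo_m3
import Cfsg.Agent.SectRankFour.Socle
import Cfsg.Agent.S0518
import Cfsg.Agent.FastGrp
import Cfsg.Agent.Prune
set_option linter.all false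

section
prune_inst 0x7f00000000000000000000000000000000000000000000000000000000000000000000000000000000000000000000000000000000000000000000000000000000000000000000000000000000000000003fffffffffffffffffffffffffffbeffbdffffffff

-- part: SectRankFour/C2/BTwoA
section
set_option linter.all false
open scoped Cfsg.Agent.FastGrp

/-!
# S0517, C2, sectional 2-rank at most 4: section (2a)

If `V = zl S P1 ≤ o2 P2` and `vh S P1 P2 = ⟨V^{P2}⟩` is nonabelian, then `|V| = 4`.
-/

set_option autoImplicit false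

namespace Cfsg.Agent.SectRankFour.C2.BTwoA

open Subgroup Cfsg Cfsg.Agent.ZN Cfsg.Agent.MinSimple.MinParabolic Cfsg.Agent.MinSimple.VModule
open Cfsg.Agent.MinSimple Cfsg.Agent.SectRankFour.C2.Defs
open Cfsg.Agent.PLocal.FFCoprime (omegaJoin omegaJoin_def)
open Cfsg.Agent.MinSimple.Killing

universe u

variable {G : Type u} [Group G]

/-! ### General facts -/

/-- An elementary abelian 2-subgroup has order at most 16. -/
theorem card_le [Finite G] (h : Hyp G) {E : Subgroup G} (hc : ∀ x ∈ E, ∀ y ∈ E, x * y = y * x)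
    (h2 : ∀ x ∈ E, x ^ 2 = 1) : Nat.card E ≤ 16 := by
  have h1 := (TwoFusion.SectionalRank.sectionalPRankLE_iff (p := 2) (k := 4)).1 h.rank E ⊥
    { le := bot_le
      comm := by
        intro a ha b hb
        rw [mem_bot, hc a ha b hb]; group
      pow := by
        intro a ha
        rw [mem_bot]; exact h2 a ha }
  simpa only [_root_.ge_iff_le, _root_.Nat.reducePow, _root_.Subgroup.mem_bot, _root_.Nat.card_eq_fintype_card, _root_.Fintype.card_unique, _root_.mul_one] using h1

theorem conj_comm_of {E : Subgroup G} (hc : ∀ x ∈ E, ∀ y ∈ E, x * y = y * x) (g : G) :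
    ∀ x ∈ E.map (MulAut.conj g).toMonoidHom, ∀ y ∈ E.map (MulAut.conj g).toMonoidHom,
      x * y = y * x := by
  rintro _ ⟨x, hx, rfl⟩ _ ⟨y, hy, rfl⟩
  rw [← map_mul, ← map_mul, hc x hx y hy]

theorem conj_sq_of {E : Subgroup G} (h2 : ∀ x ∈ E, x ^ 2 = 1) (g : G) :
    ∀ x ∈ E.map (MulAut.conj g).toMonoidHom, x ^ 2 = 1 := by
  rintro _ ⟨x, hx, rfl⟩
  rw [← map_pow, h2 x hx, map_one]

theorem card_conj (E : Subgroup G) (g : G) :
    Nat.card (E.map (MulAut.conj g).toMonoidHom) = Nat.card E :=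
  card_map_of_injective (MulAut.conj g).injective

/-- `|V| ≡ |C_V(R)|` mod `p`. -/
theorem card_modEq [Finite G] {p : ℕ} [Fact p.Prime] {R V : Subgroup G} (hR : IsPGroup p R)
    (hRV : R ≤ normalizer (V : Set G)) :
    Nat.card V ≡ Nat.card (V ⊓ centralizer (R : Set G) : Subgroup G) [MOD p] := by
  let act : MulAction R V :=
    { smul := fun r v => ⟨(r : G) * v * (r : G)⁻¹, (mem_normalizer_iff.1 (hRV r.2) v).1 v.2⟩
      one_smul := fun v => Subtype.ext (by
        change ((1 : R) : G) * v * ((1 : R) : G)⁻¹ = v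
        simp)
      mul_smul := fun r s v => Subtype.ext (by
        change ((r * s : R) : G) * v * ((r * s : R) : G)⁻¹ =
          (r : G) * ((s : G) * v * (s : G)⁻¹) * (r : G)⁻¹
        rw [coe_mul]; group) }
  have h1 := hR.card_modEq_card_fixedPoints V
  refine h1.trans ?_
  have h2 : Nat.card (MulAction.fixedPoints R V) =
      Nat.card (V ⊓ centralizer (R : Set G) : Subgroup G) := by
    refine Nat.card_congr ⟨fun v => ⟨v.1, v.1.2, ?_⟩, fun v => ⟨⟨v.1, v.2.1⟩, ?_⟩, ?_, ?_⟩
    · refine mem_centralizer_iff.2 ?_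
      intro r hr
      have := congrArg Subtype.val (v.2 ⟨r, hr⟩)
      change r * (v.1 : G) * r⁻¹ = v.1 at this
      calc r * (v.1 : G) = r * (v.1 : G) * r⁻¹ * r := by group
        _ = v.1 * r := by rw [this]
    · intro r
      refine Subtype.ext ?_
      change (r : G) * (v : G) * (r : G)⁻¹ = v
      rw [mem_centralizer_iff.1 v.2.2 r r.2]; group
    · intro v; rfl
    · intro v; rfl
  rw [h2]

/-! ### Facts on the pair -/

section Pair

variable [Finite G] {S P1 P2 : Subgroup G}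

theorem centralizer_le_normalizer' (H : Subgroup G) :
    centralizer (H : Set G) ≤ normalizer (H : Set G) := centralizer_le_normalizer _

theorem S_ne_bot (h : Pair S P1 P2) : S ≠ ⊥ := by
  obtain ⟨R, p, hp⟩ := h.par1
  intro h0
  have h1 := _root_.Cfsg.Agent.MinSimple.VModule.o2_le_of_sylow hp.two hp.syl
  rw [h0] at h1
  exact hp.o2_ne (le_bot_iff.1 h1)

theorem zc_ne_bot (h : Pair S P1 P2) : zc S ≠ ⊥ := by
  obtain ⟨R, p, hp⟩ := h.par1
  obtain ⟨c, -, hc, hc1⟩ := CaseD8.exists_mem_zc hp.two le_rfl le_normalizer (S_ne_bot h)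
  intro h0
  rw [h0, mem_bot] at hc
  exact hc1 hc

theorem zc_isPGroup (h : Pair S P1 P2) : IsPGroup 2 (zc S) := by
  obtain ⟨R, p, hp⟩ := h.par1
  exact hp.two.to_le (VModule.zc_le S)

theorem not_norm (h : Pair S P1 P2) : ¬ P1 ≤ normalizer (zc S : Set G) := fun h1 =>
  zc_ne_bot h (h.nonlocal _ (zc_isPGroup h) h1 (h.cent.trans (centralizer_le_normalizer' _)))

theorem inf_centralizer (h : Pair S P1 P2) : S ⊓ centralizer (zl S P1 : Set G) = o2 P1 := by
  obtain ⟨R, p, hp⟩ := h.par1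
  exact inf_centralizer_zl hp.min hp.two hp.syl hp.char2 (not_norm h)

theorem cent_oddGen (h : Pair S P1 P2) : zl S P1 ⊓ centralizer (oddGen P1 : Set G) = ⊥ := by
  obtain ⟨R, p, hp⟩ := h.par1
  rw [(zl_decomp hp.min hp.two hp.syl hp.solv hp.char2).2.2.2]
  refine h.nonlocal _ ((zc_isPGroup h).to_le inf_le_left) ?_ ?_
  · exact (le_centralizer_iff.1 inf_le_right).trans (centralizer_le_normalizer' _)
  · have h1 : zc S ⊓ centralizer (P1 : Set G) ≤ zc S := inf_le_left
    exact (h.cent.trans (centralizer_le h1)).trans (centralizer_le_normalizer' _)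

theorem V_comm (h : Pair S P1 P2) : ∀ x ∈ zl S P1, ∀ y ∈ zl S P1, x * y = y * x := by
  obtain ⟨R, p, hp⟩ := h.par1
  exact zl_comm hp.le hp.two hp.syl hp.char2

theorem V_sq (h : Pair S P1 P2) : ∀ x ∈ zl S P1, x ^ 2 = 1 := by
  obtain ⟨R, p, hp⟩ := h.par1
  exact zl_sq hp.le hp.two hp.syl hp.char2

theorem V_le_o2 (h : Pair S P1 P2) : zl S P1 ≤ o2 P1 := by
  obtain ⟨R, p, hp⟩ := h.par1
  exact (zl_le_zc hp.le hp.two hp.syl hp.char2).trans (VModule.zc_le _)

theorem o2_le_S1 (h : Pair S P1 P2) : o2 P1 ≤ S := by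
  obtain ⟨R, p, hp⟩ := h.par1
  exact _root_.Cfsg.Agent.MinSimple.VModule.o2_le_of_sylow hp.two hp.syl

theorem o2_le_S2 (h : Pair S P1 P2) : o2 P2 ≤ S := by
  obtain ⟨R, p, hp⟩ := h.par2
  exact _root_.Cfsg.Agent.MinSimple.VModule.o2_le_of_sylow hp.two hp.syl

end Pair

/-! ### The decomposition `V = W true × W false` -/

structure Dec (S V : Subgroup G) (W : Bool → Subgroup G) (d : Bool → G) : Prop where
  card : ∀ i, Nat.card (W i) = 4
  le : ∀ i, W i ≤ V
  sup : W true ⊔ W false = V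
  inf : W true ⊓ W false = ⊥
  dn : ∀ i, d i ∈ normalizer (W i : Set G)
  ne : ∀ i, ∃ v ∈ W i, d i * v * (d i)⁻¹ ≠ v
  cube : ∀ i, ∀ v ∈ W i, d i ^ 3 * v * (d i ^ 3)⁻¹ = v
  dc : ∀ i, ∀ v ∈ W (!i), d i * v = v * d i
  swap : ∃ s ∈ S, (W true).map (MulAut.conj s).toMonoidHom = W false
  nrm : ∀ B : Subgroup G, B ≤ S → (∀ x ∈ B, ∀ y ∈ B, x * y = y * x) → (∀ x ∈ B, x ^ 2 = 1) →
    Nat.card B = 16 → ∀ i, B ≤ normalizer (W i : Set G)

/-- An elementary abelian subgroup of order 16 lies in `J(S)`. -/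
theorem le_jj [Finite G] {S P1 P2 B : Subgroup G} (h : Pair S P1 P2) (hBS : B ≤ S)
    (hBc : ∀ x ∈ B, ∀ y ∈ B, x * y = y * x) (hB2 : ∀ x ∈ B, x ^ 2 = 1)
    (hB16 : Nat.card B = 16) : B ≤ jj S := by
  have h1 : B.subgroupOf S ∈ maxElementaryAbelianSubgroups 2 ↥S := by
    rw [PLocal.ThompsonJ.mem_maxElementaryAbelianSubgroups_iff]
    constructor
    · rw [PLocal.ThompsonJ.isElementaryAbelian_iff]
      constructor
      · intro a ha b hb
        exact Subtype.ext (hBc a ha b hb)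
      · intro a ha
        exact Subtype.ext (hB2 a ha)
    · intro E hE
      rw [PLocal.ThompsonJ.isElementaryAbelian_iff] at hE
      have h2 : Nat.card (B.subgroupOf S) = 16 := by
        rw [← hB16]
        exact Nat.card_congr (subgroupOfEquivOfLe hBS).toEquiv
      rw [h2, ← card_map_of_injective S.subtype_injective (K := E)]
      refine card_le h.hyp ?_ ?_
      · rintro _ ⟨a, ha, rfl⟩ _ ⟨b, hb, rfl⟩
        exact congrArg Subtype.val (hE.1 a ha b hb)
      · rintro _ ⟨a, ha, rfl⟩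
        exact congrArg Subtype.val (hE.2 a ha)
  have h2 := PLocal.ThompsonJ.le_thompsonSubgroup h1
  have h3 := Subgroup.map_mono (f := S.subtype) h2
  rwa [subgroupOf_map_subtype, inf_eq_left.2 hBS] at h3

theorem map_conj_subtype {P : Subgroup G} (V : Subgroup P) (s : P) :
    (V.map (MulAut.conj s).toMonoidHom).map P.subtype =
      (V.map P.subtype).map (MulAut.conj (s : G)).toMonoidHom := by
  rw [Subgroup.map_map, Subgroup.map_map]
  rfl

/-- If an elementary abelian subgroup of order 16 of `S` does not centralize `V`, `|V| = 16`, then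
`V` is the product of two four-groups `W true`, `W false`. -/
theorem exists_dec [Finite G] {S P1 P2 B : Subgroup G} (h : Pair S P1 P2)
    (hcard : Nat.card (zl S P1) = 16) (hBS : B ≤ S)
    (hBc : ∀ x ∈ B, ∀ y ∈ B, x * y = y * x) (hB2 : ∀ x ∈ B, x ^ 2 = 1)
    (hB16 : Nat.card B = 16) (hBV : ¬ B ≤ centralizer (zl S P1 : Set G)) :
    ∃ W d, Dec S (zl S P1) W d := by
  obtain ⟨R, p, hp⟩ := h.par1
  have hfact : Fact (Nat.Prime 2) := ⟨Nat.prime_two⟩
  have hinj : Function.Injective P1.subtype := P1.subtype_injective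
  have ho := inf_centralizer h
  have hJV : ¬ jj S ≤ centralizer (zl S P1 : Set G) :=
    fun h1 => hBV ((le_jj h hBS hBc hB2 hB16).trans h1)
  obtain ⟨n, V, hff⟩ := DBlkNot.exists_ff1 hp.solv hp.two hp.le hp.syl hp.char2 ho.symm hJV
  have hT2 : IsPGroup 2 (S.subgroupOf P1) := hff.two
  have hTi : ¬ 2 ∣ (S.subgroupOf P1).index := hff.sylow
  have hTT : (S.subgroupOf P1).map P1.subtype = S := by
    rw [subgroupOf_map_subtype, inf_eq_left.2 hp.le]
  have hNN : (⊤ : Subgroup ↥P1).map P1.subtype = P1 := by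
    rw [← MonoidHom.range_eq_map, Subgroup.range_subtype]
  have hzl : zl S P1 = (omegaJoin 2 ↥P1).map P1.subtype := by
    rw [DBlkNot.omegaJoin_eq hT2 hTi, ← zl_map P1.subtype hinj, hTT, hNN]
  -- `J(P1)`
  set J : Subgroup ↥P1 := thompsonSubgroup 2 ↥P1 with hJdef
  have hJn : J.Normal := by
    haveI := PLocal.ThompsonJ.thompsonSubgroup_characteristic 2 ↥P1
    infer_instance
  set J' : Subgroup G := J.map P1.subtype with hJ'
  have hJ'n : P1 ≤ normalizer (J' : Set G) := le_normalizer_map_of_normal hJn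
  have hjjJ : jj S ≤ J' := by
    have h1 := Subgroup.map_mono (f := P1.subtype) (DBlkNot.jj_le_thompson hT2 hTi)
    rwa [← jj_map P1.subtype hinj, hTT] at h1
  have hJS : J' ⊔ S = P1 := by
    rcases hp.min.sup_eq_or_inf_le (p := 2) hp.two hp.syl (N := J') (map_subtype_le _) hJ'n
      with h1 | h1
    · exact h1
    · exfalso
      apply hJV
      have h2 : jj S ≤ o2 P1 := (le_inf (PLocal.ThompsonJ.thompsonSubgroupOf_le_self 2 S)
        hjjJ).trans h1
      exact h2.trans (ho.ge.trans inf_le_right)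
  have hL : oddGen P1 ≤ J' := oddGen_le_of_sup hJ'n hJS.ge hp.le (map_subtype_le _) hp.two
  have hCW : omegaJoin 2 ↥P1 ⊓ centralizer (J : Set ↥P1) = ⊥ := by
    rw [← (Subgroup.map_injective hinj).eq_iff, Subgroup.map_bot,
      ← centralizer_map_inf P1.subtype hinj, ← hzl, ← hJ', eq_bot_iff, ← cent_oddGen h]
    exact inf_le_inf_left _ (centralizer_le hL)
  have hJT : J ⊔ S.subgroupOf P1 = ⊤ := by
    apply Subgroup.map_injective hinj
    rw [Subgroup.map_sup, hTT, ← hJ', hNN, hJS]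
  -- no `V i` is normalized by `S`
  have hns : ∀ i, ¬ S.subgroupOf P1 ≤ normalizer (V i : Set ↥P1) := by
    intro i hi
    have hVn : (V i).Normal := by
      rw [← normalizer_eq_top_iff, eq_top_iff, ← hJT]
      exact sup_le (hff.nrm i) hi
    set N : Subgroup ↥P1 := centralizer (V i : Set ↥P1) with hNdef
    have hNn : N.Normal := by rw [hNdef]; infer_instance
    have hN'n : P1 ≤ normalizer ((N.map P1.subtype : Subgroup G) : Set G) :=
      le_normalizer_map_of_normal hNn
    rcases hp.min.sup_eq_or_inf_le (p := 2) hp.two hp.syl (N := N.map P1.subtype)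
      (map_subtype_le _) hN'n with h1 | h1
    · have h2 : oddGen P1 ≤ N.map P1.subtype :=
        oddGen_le_of_sup hN'n h1.ge hp.le (map_subtype_le _) hp.two
      obtain ⟨d, -, ⟨v, hv, hdv⟩, hd3, -⟩ := hff.d i
      have hd3N : d ^ 3 ∈ N := by
        rw [hNdef, PlaneAct.mem_centralizer_iff']
        exact hd3
      obtain ⟨k, m, hm, hkm⟩ := Nat.exists_eq_two_pow_mul_odd (n := orderOf d)
        (orderOf_pos d).ne'
      have hdk : d ^ 2 ^ k ∈ N := by
        have h3 : ((d ^ 2 ^ k : ↥P1) : G) ∈ oddGen P1 := by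
          refine mem_oddGen (d ^ 2 ^ k).2 ?_
          rw [Subgroup.orderOf_coe, orderOf_pow_of_dvd (pow_ne_zero k two_ne_zero)
            (hkm ▸ dvd_mul_right _ _), hkm, Nat.mul_div_cancel_left _ (by positivity)]
          exact hm
        obtain ⟨y, hy, hyd⟩ := h2 h3
        have : y = d ^ 2 ^ k := Subtype.ext hyd
        rwa [this] at hy
      have hdN : d ∈ N := by
        rw [← QuotientGroup.eq_one_iff] at hd3N hdk ⊢
        rw [QuotientGroup.mk_pow] at hd3N hdk
        have h4 : orderOf (d : ↥P1 ⧸ N) = 1 := Nat.eq_one_of_dvd_coprimes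
          (Nat.Coprime.pow_left k (by norm_num : Nat.Coprime 2 3))
          (orderOf_dvd_of_pow_eq_one hdk) (orderOf_dvd_of_pow_eq_one hd3N)
        exact orderOf_eq_one_iff.1 h4
      rw [hNdef, PlaneAct.mem_centralizer_iff'] at hdN
      exact hdv (hdN v hv)
    · have hall : ∀ j, j = i := by
        intro j
        by_contra hji
        obtain ⟨t, ht, ⟨v, hv, htv⟩, htr⟩ := hff.t j
        have htT : t ∈ S.subgroupOf P1 := jj_le _ ht
        have htN : t ∈ N := by
          rw [hNdef, mem_centralizer_iff]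
          exact fun w hw => (htr i (Ne.symm hji) w hw).symm
        have ht2 : (t : G) ∈ (pCore 2 ↥P1).map P1.subtype :=
          h1 ⟨mem_subgroupOf.1 htT, ⟨t, htN, rfl⟩⟩
        obtain ⟨t', ht', htt⟩ := ht2
        have : t' = t := Subtype.ext htt
        rw [this] at ht'
        have hvW : v ∈ omegaJoin 2 ↥P1 := by
          rw [← hff.sup]
          exact mem_sup_right (mem_iSup_of_mem j hv)
        have h3 := mem_centralizer_iff.1 (hff.Wcent ht') v hvW
        apply htv
        rw [← h3]; group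
      have hsup := hff.sup
      have hcard2 : Nat.card (omegaJoin 2 ↥P1) = 16 := by
        rw [← hcard, hzl, card_map_of_injective hinj]
      have h3 : (⨆ j, V j) = V i := by
        apply le_antisymm
        · exact iSup_le fun j => by rw [hall j]
        · exact le_iSup V i
      rw [hCW, h3, bot_sup_eq] at hsup
      rw [← hsup, hff.card i] at hcard2
      norm_num at hcard2
  obtain ⟨i0⟩ := hff.nonempty
  obtain ⟨s, hsT, hsn⟩ := SetLike.not_le_iff_exists.1 (hns i0)
  obtain ⟨j0, hj0⟩ := hff.perm s i0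
  have hij : j0 ≠ i0 := by
    rintro rfl
    exact hsn (mem_normalizer_iff_map_conj_eq.2 hj0)
  have hdis : V i0 ⊓ V j0 = ⊥ := by
    have h1 := hff.indep.pairwiseDisjoint (show (some i0 : Option (Fin n)) ≠ some j0 from
      fun h1 => hij (Option.some_injective _ h1).symm)
    exact h1.eq_bot
  have hVW : ∀ i, V i ≤ omegaJoin 2 ↥P1 := by
    intro i
    rw [← hff.sup]
    exact (le_iSup V i).trans le_sup_right
  have hVz : ∀ i, (V i).map P1.subtype ≤ zl S P1 := fun i => by
    rw [hzl]; exact Subgroup.map_mono (hVW i)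
  obtain ⟨d0, hd0J, hd0v, hd03, hd0t⟩ := hff.d i0
  obtain ⟨d1, hd1J, hd1v, hd13, hd1t⟩ := hff.d j0
  have hnrm : ∀ (i : Fin n), ∀ x ∈ J, (x : G) ∈ normalizer (((V i).map P1.subtype : Subgroup G) :
      Set G) := by
    intro i x hx
    exact mem_normalizer_iff_map_conj_eq.2 ((map_conj_subtype (V i) x).symm.trans
      (congrArg (Subgroup.map P1.subtype) (mem_normalizer_iff_map_conj_eq.1 (hff.nrm i hx))))
  have hcard4 : ∀ i, Nat.card ((V i).map P1.subtype) = 4 := fun i => by
    rw [card_map_of_injective hinj, hff.card i]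
  have hinf' : (V i0).map P1.subtype ⊓ (V j0).map P1.subtype = ⊥ := by
    rw [← Subgroup.map_inf _ _ _ hinj, hdis, Subgroup.map_bot]
  refine ⟨fun b => if b then (V i0).map P1.subtype else (V j0).map P1.subtype,
    fun b => if b then (d0 : G) else (d1 : G), ?_⟩
  refine
    { card := ?_
      le := ?_
      sup := ?_
      inf := ?_
      dn := ?_
      ne := ?_
      cube := ?_
      dc := ?_
      swap := ?_
      nrm := ?_ }
  · rintro (_ | _)
    · exact hcard4 j0
    · exact hcard4 i0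
  · rintro (_ | _)
    · exact hVz j0
    · exact hVz i0
  · refine eq_of_le_of_card_ge (sup_le (hVz i0) (hVz j0)) ?_
    have h1 : (V i0).map P1.subtype ≤
        normalizer (((V j0).map P1.subtype : Subgroup G) : Set G) := by
      refine ZN.Block.le_normalizer_of_forall fun a ha b hb => ?_
      rw [V_comm h a (hVz _ ha) b (hVz _ hb), mul_inv_cancel_right]
      exact hb
    have h2 := ZN.Block.card_sup_mul_card_inf h1
    rw [hinf', card_bot, hcard4, hcard4, mul_one] at h2
    change Nat.card (zl S P1) ≤ Nat.card ↥((V i0).map P1.subtype ⊔ (V j0).map P1.subtype)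
    rw [h2, hcard]
  · exact hinf'
  · rintro (_ | _)
    · exact hnrm j0 d1 hd1J
    · exact hnrm i0 d0 hd0J
  · rintro (_ | _)
    · obtain ⟨v, hv, hv2⟩ := hd1v
      exact ⟨v, ⟨v, hv, rfl⟩, fun h1 => hv2 (Subtype.ext h1)⟩
    · obtain ⟨v, hv, hv2⟩ := hd0v
      exact ⟨v, ⟨v, hv, rfl⟩, fun h1 => hv2 (Subtype.ext h1)⟩
  · rintro (_ | _)
    · rintro _ ⟨v, hv, rfl⟩
      exact congrArg Subtype.val (hd13 v hv)
    · rintro _ ⟨v, hv, rfl⟩
      exact congrArg Subtype.val (hd03 v hv)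
  · rintro (_ | _)
    · rintro _ ⟨v, hv, rfl⟩
      exact congrArg Subtype.val (hd1t i0 hij.symm v hv)
    · rintro _ ⟨v, hv, rfl⟩
      exact congrArg Subtype.val (hd0t j0 hij v hv)
  · refine ⟨s, mem_subgroupOf.1 hsT, ?_⟩
    change ((V i0).map P1.subtype).map (MulAut.conj (s : G)).toMonoidHom = (V j0).map P1.subtype
    rw [← map_conj_subtype, hj0]
  · intro B' hB'S hB'c hB'2 hB'16 b x hx
    obtain ⟨y, hy, rfl⟩ := hjjJ (le_jj h hB'S hB'c hB'2 hB'16 hx)
    rcases b with _ | _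
    · exact hnrm j0 y hy
    · exact hnrm i0 y hy

/-! ### The order of `V` -/

theorem locSolv' (h : Hyp G) : ∀ U : Subgroup G, IsPGroup 2 U → U ≠ ⊥ →
    Group.IsSolvable (normalizer (U : Set G)) := fun U hU hU1 => h.locSolv _ ⟨U, hU, hU1, rfl⟩

theorem inf_centralizer_R [Finite G] {S P1 P2 R : Subgroup G} {p : ℕ} (h : Pair S P1 P2)
    (hp : Par S P1 R p) : zl S P1 ⊓ centralizer (R : Set G) = ⊥ := by
  rw [eq_bot_iff, ← cent_oddGen h]
  refine le_inf inf_le_left ?_
  refine le_trans ?_ (centralizer_le hp.oddGen_le)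
  have h1 : R ≤ centralizer ((zl S P1 ⊓ centralizer (R : Set G) : Subgroup G) : Set G) :=
    le_centralizer_iff.1 inf_le_right
  have h2 : o2 P1 ≤ centralizer ((zl S P1 ⊓ centralizer (R : Set G) : Subgroup G) : Set G) :=
    (o2_le_centralizer_zl hp.le hp.two hp.syl hp.char2).trans (centralizer_le
      (show zl S P1 ⊓ centralizer (R : Set G) ≤ zl S P1 from inf_le_left))
  exact le_centralizer_iff.1 (sup_le h2 h1)

theorem R_isPGroup {S P R : Subgroup G} {p : ℕ} (hp : Par S P R p) : IsPGroup p R := by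
  rintro ⟨x, hx⟩
  exact ⟨1, Subtype.ext (by simpa only [_root_.pow_one, _root_.SubmonoidClass.mk_pow, _root_.OneMemClass.coe_one] using hp.pow_R x hx)⟩

theorem prime_of_par {S P R : Subgroup G} {p : ℕ} (hp : Par S P R p) : Fact p.Prime := by
  rcases hp.p_eq with rfl | rfl
  · exact ⟨Nat.prime_three⟩
  · exact ⟨Nat.prime_five⟩

theorem card_cases [Finite G] {S P1 P2 : Subgroup G} (h : Pair S P1 P2) :
    Nat.card (zl S P1) = 4 ∨ Nat.card (zl S P1) = 16 := by
  obtain ⟨R, p, hp⟩ := h.par1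
  have hfact := prime_of_par hp
  have hfact2 : Fact (Nat.Prime 2) := ⟨Nat.prime_two⟩
  have h1 := card_modEq (R_isPGroup hp) (hp.R_le.trans (VModule.le_normalizer_zl S P1))
  rw [inf_centralizer_R h hp, card_bot] at h1
  have h2 : IsPGroup 2 (zl S P1) := hp.two.to_le ((V_le_o2 h).trans (o2_le_S1 h))
  obtain ⟨k, hk⟩ := IsPGroup.iff_card.1 h2
  have h3 := card_le h.hyp (V_comm h) (V_sq h)
  have h4 : Nat.card (zl S P1) ≠ 1 := by
    rw [Ne, card_eq_one]
    intro h5
    exact zc_ne_bot h (le_bot_iff.1 (h5 ▸ _root_.Cfsg.Agent.MinSimple.VModule.zc_le_zl S P1))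
  have hk4 : k ≤ 4 := by
    by_contra hk4
    have : 2 ^ 5 ≤ 2 ^ k := Nat.pow_le_pow_right (by norm_num) (by omega)
    omega
  rcases hp.p_eq with rfl | rfl
  · interval_cases k <;> simp_all only [Nat.ModEq, _root_.pow_zero, _root_.Nat.one_le_ofNat, _root_.ne_eq, _root_.not_true_eq_false, _root_.pow_one, _root_.Nat.reduceLeDiff, _root_.OfNat.ofNat_ne_one, _root_.not_false_eq_true, _root_.Nat.mod_succ, _root_.Nat.one_mod, _root_.Nat.reducePow, _root_.Nat.reduceMod, _root_.Nat.reduceEqDiff, _root_.or_false, _root_.Std.le_refl, _root_.or_true]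
  · interval_cases k <;> simp_all only [Nat.ModEq, _root_.pow_zero, _root_.Nat.one_le_ofNat, _root_.ne_eq, _root_.not_true_eq_false, _root_.pow_one, _root_.Nat.reduceLeDiff, _root_.OfNat.ofNat_ne_one, _root_.not_false_eq_true, _root_.Nat.reduceMod, _root_.Nat.one_mod, _root_.Nat.reducePow, _root_.Nat.mod_succ, _root_.Std.le_refl, _root_.Nat.reduceEqDiff, _root_.or_true]

/-- Some `P2`-conjugate of `V` does not centralize `V`, if `vh` is nonabelian. -/
theorem exists_conj {S P1 P2 : Subgroup G}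
    (hna : ¬ ∀ x ∈ vh S P1 P2, ∀ y ∈ vh S P1 P2, x * y = y * x) :
    ∃ g ∈ P2, ¬ (zl S P1).map (MulAut.conj g).toMonoidHom ≤ centralizer (zl S P1 : Set G) := by
  by_contra hcon
  push Not at hcon
  apply hna
  have key : vh S P1 P2 ≤ centralizer (vh S P1 P2 : Set G) := by
    rw [vh, cl, centralizer_closure, closure_le]
    rintro _ ⟨x, hx, a, ha, rfl⟩
    refine mem_centralizer_iff.2 ?_
    rintro _ ⟨y, hy, b, hb, rfl⟩
    have h1 := mem_centralizer_iff.1 (hcon (y⁻¹ * x) (mul_mem (inv_mem hy) hx) ⟨a, ha, rfl⟩) b hb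
    change b * ((y⁻¹ * x) * a * (y⁻¹ * x)⁻¹) = ((y⁻¹ * x) * a * (y⁻¹ * x)⁻¹) * b at h1
    calc y * b * y⁻¹ * (x * a * x⁻¹) = y * (b * ((y⁻¹ * x) * a * (y⁻¹ * x)⁻¹)) * y⁻¹ := by group
      _ = y * (((y⁻¹ * x) * a * (y⁻¹ * x)⁻¹) * b) * y⁻¹ := by rw [h1]
      _ = x * a * x⁻¹ * (y * b * y⁻¹) := by group
  intro x hx y hy
  exact (mem_centralizer_iff.1 (key hx) y hy).symm

theorem comp_fixed {A1 A2 : Subgroup G} (hinf : A1 ⊓ A2 = ⊥) {b c1 c2 : G}
    (hb1 : b ∈ normalizer (A1 : Set G)) (hb2 : b ∈ normalizer (A2 : Set G)) (h1 : c1 ∈ A1)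
    (h2 : c2 ∈ A2) (hz : b * (c1 * c2) * b⁻¹ = c1 * c2) : b * c1 * b⁻¹ = c1 := by
  have e : c1⁻¹ * (b * c1 * b⁻¹) = c2 * (b * c2 * b⁻¹)⁻¹ := by
    have h3 : b * c1 * b⁻¹ * (b * c2 * b⁻¹) = c1 * c2 := by rw [← hz]; group
    calc c1⁻¹ * (b * c1 * b⁻¹) = c1⁻¹ * (b * c1 * b⁻¹ * (b * c2 * b⁻¹)) * (b * c2 * b⁻¹)⁻¹ := by
          group
      _ = c1⁻¹ * (c1 * c2) * (b * c2 * b⁻¹)⁻¹ := by rw [h3]
      _ = c2 * (b * c2 * b⁻¹)⁻¹ := by group
  have h3 : c1⁻¹ * (b * c1 * b⁻¹) ∈ A1 ⊓ A2 :=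
    mem_inf.2 ⟨mul_mem (inv_mem h1) ((mem_normalizer_iff.1 hb1 c1).1 h1),
      e ▸ mul_mem h2 (inv_mem ((mem_normalizer_iff.1 hb2 c2).1 h2))⟩
  rw [hinf, mem_bot] at h3
  exact (inv_mul_eq_one.1 h3).symm

theorem le_ncl {W X : Subgroup G} (hW : Nat.card W = 4) (hsq : ∀ v ∈ W, v ^ 2 = 1) {d : G}
    (hd : d ∈ normalizer (W : Set G)) (hne : ∃ v ∈ W, d * v * d⁻¹ ≠ v)
    (h3 : ∀ v ∈ W, d ^ 3 * v * (d ^ 3)⁻¹ = v) (hdX : d ∈ X) {c : G} (hc : c ∈ W) (hc1 : c ≠ 1) :
    W ≤ ncl X c := by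
  have h1 : d * c * d⁻¹ ∈ ncl X c := conj_mem_ncl hdX
  have h2 : d * c * d⁻¹ ∈ W := (mem_normalizer_iff.1 hd c).1 hc
  have h4 : c ≠ d * c * d⁻¹ := fun h5 => hc1 (PlaneAct.eq_one_of_fixed hW hsq hd hne h3 hc h5.symm)
  have h5 : d * c * d⁻¹ ≠ 1 := by
    intro h6
    apply hc1
    have := congrArg (fun x => d⁻¹ * x * d) h6
    simpa [mul_assoc] using this
  intro w hw
  rcases PlaneAct.mem_cases hW hsq hc h2 hc1 h5 h4 w hw with rfl | rfl | rfl | rfl
  · exact one_mem _
  · exact self_mem_ncl _ _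
  · exact h1
  · exact mul_mem (self_mem_ncl _ _) h1

theorem conj_mem_map {A : Subgroup G} {g b : G}
    (hb : g⁻¹ * b * g ∈ normalizer (A : Set G)) :
    b ∈ normalizer ((A.map (MulAut.conj g).toMonoidHom : Subgroup G) : Set G) := by
  rw [mem_normalizer_iff]
  have key : ∀ x, x ∈ A.map (MulAut.conj g).toMonoidHom ↔ g⁻¹ * x * g ∈ A := by
    intro x
    constructor
    · rintro ⟨a, ha, rfl⟩
      change g⁻¹ * (g * a * g⁻¹) * g ∈ A
      have e1 : g⁻¹ * (g * a * g⁻¹) * g = a := by group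
      rw [e1]
      exact ha
    · intro hx
      exact ⟨_, hx, by change g * (g⁻¹ * x * g) * g⁻¹ = x; group⟩
  intro x
  rw [key, key, mem_normalizer_iff.1 hb]
  have e : g⁻¹ * b * g * (g⁻¹ * x * g) * (g⁻¹ * b * g)⁻¹ = g⁻¹ * (b * x * b⁻¹) * g := by group
  rw [e]

/-- **Section (2a)**. -/
theorem card_eq_four [Finite G] {S P1 P2 : Subgroup G} (h : Pair S P1 P2)
    (hV : zl S P1 ≤ o2 P2) (hna : ¬ ∀ x ∈ vh S P1 P2, ∀ y ∈ vh S P1 P2, x * y = y * x) :
    Nat.card (zl S P1) = 4 := by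
  rcases card_cases h with h4 | hcard
  · exact h4
  exfalso
  obtain ⟨g, hg, hBV⟩ := exists_conj hna
  have hVc := V_comm h
  have hV2 := V_sq h
  have hconjS : ∀ g ∈ P2, (zl S P1).map (MulAut.conj g).toMonoidHom ≤ S := by
    intro g hg
    refine le_trans ?_ (o2_le_S2 h)
    rintro _ ⟨v, hv, rfl⟩
    exact (mem_normalizer_iff.1 (VModule.le_normalizer_o2 P2 hg) v).1 (hV hv)
  set V := zl S P1 with hVdef
  obtain ⟨W, d, D⟩ := exists_dec h hcard (hconjS g hg) (conj_comm_of hVc g) (conj_sq_of hV2 g)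
    ((card_conj V g).trans hcard) hBV
  rw [← hVdef] at D
  have hWc : ∀ i, ∀ x ∈ W i, ∀ y ∈ V, x * y = y * x := fun i x hx y hy => hVc x (D.le i hx) y hy
  have hW2 : ∀ i, ∀ x ∈ W i, x ^ 2 = 1 := fun i x hx => hV2 x (D.le i hx)
  -- normalizers
  have hn1 : ∀ i, ∀ b ∈ V.map (MulAut.conj g).toMonoidHom, b ∈ normalizer (W i : Set G) :=
    fun i b hb => D.nrm _ (hconjS g hg) (conj_comm_of hVc g) (conj_sq_of hV2 g)
      ((card_conj V g).trans hcard) i hb
  have hn2 : ∀ i, ∀ v ∈ V, v ∈ normalizer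
      (((W i).map (MulAut.conj g).toMonoidHom : Subgroup G) : Set G) := by
    intro i v hv
    apply conj_mem_map
    refine D.nrm _ (hconjS g⁻¹ (inv_mem hg)) (conj_comm_of hVc g⁻¹) (conj_sq_of hV2 g⁻¹)
      ((card_conj V g⁻¹).trans hcard) i ⟨v, hv, ?_⟩
    change g⁻¹ * v * g⁻¹⁻¹ = g⁻¹ * v * g
    rw [inv_inv]
  -- `z`
  obtain ⟨z, hz, hz1⟩ := (Subgroup.ne_bot_iff_exists_ne_one.1 (zc_ne_bot h)).elim
    fun z hz1 => (⟨z, z.2, fun h1 => hz1 (Subtype.ext h1)⟩ : ∃ z : G, z ∈ zc S ∧ z ≠ 1)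
  have hzg : g * z * g⁻¹ = z := by
    rw [← mem_centralizer_iff.1 (h.cent hg) z hz]; group
  have hzV : z ∈ V := _root_.Cfsg.Agent.MinSimple.VModule.zc_le_zl S P1 hz
  have hinf : ∀ i, W i ⊓ W (!i) = ⊥ := by
    rintro (_ | _)
    · rw [inf_comm]; exact D.inf
    · exact D.inf
  obtain ⟨c, hcW, hcz⟩ : ∃ c : Bool → G, (∀ i, c i ∈ W i) ∧ ∀ i, c i * c (!i) = z := by
    have h1 : W true ≤ normalizer (W false : Set G) := by
      refine ZN.Block.le_normalizer_of_forall fun a ha b hb => ?_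
      rw [hVc a (D.le _ ha) b (D.le _ hb), mul_inv_cancel_right]
      exact hb
    have h2 : z ∈ ((W true ⊔ W false : Subgroup G) : Set G) := by
      rw [D.sup]; exact hzV
    rw [Subgroup.coe_mul_of_left_le_normalizer_right _ _ h1] at h2
    obtain ⟨a, ha, b, hb, hab⟩ := h2
    refine ⟨fun i => if i then a else b, ?_, ?_⟩
    · rintro (_ | _)
      · exact hb
      · exact ha
    · rintro (_ | _)
      · change b * a = z
        rw [hVc b (D.le _ hb) a (D.le _ ha)]; exact hab
      · exact hab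
  have hc1 : ∀ i, c i ≠ 1 := by
    obtain ⟨s, hsS, hsW⟩ := D.swap
    have hsz : s * z * s⁻¹ = z := by
      rw [(VModule.mem_zc.1 hz).2.1 s hsS]; group
    have hmap : ∀ a ∈ W true, s * a * s⁻¹ ∈ W false := fun a ha => hsW ▸ ⟨a, ha, rfl⟩
    have hmap' : ∀ a ∈ W false, s⁻¹ * a * s ∈ W true := by
      intro a ha
      rw [← hsW] at ha
      obtain ⟨b, hb, rfl⟩ := ha
      change s⁻¹ * (s * b * s⁻¹) * s ∈ W true
      have e1 : s⁻¹ * (s * b * s⁻¹) * s = b := by group
      rw [e1]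
      exact hb
    rintro (_ | _) h0
    · -- `c false = 1`: `z ∈ W true`
      have h1 : c true = z := by
        have := hcz true
        rwa [Bool.not_true, h0, mul_one] at this
      have h2 : z ∈ W true := h1 ▸ hcW true
      have h3 : z ∈ W false := hsz ▸ hmap z h2
      have h4 : z ∈ W true ⊓ W false := ⟨h2, h3⟩
      rw [D.inf, mem_bot] at h4
      exact hz1 h4
    · have h1 : c false = z := by
        have := hcz true
        rwa [Bool.not_true, h0, one_mul] at this
      have h2 : z ∈ W false := h1 ▸ hcW false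
      have h3 : z ∈ W true := by
        have h5 := hmap' z h2
        have h6 : s⁻¹ * z * s = z := by
          calc s⁻¹ * z * s = s⁻¹ * (s * z * s⁻¹) * s := by rw [hsz]
            _ = z := by group
        rwa [h6] at h5
      have h4 : z ∈ W true ⊓ W false := ⟨h3, h2⟩
      rw [D.inf, mem_bot] at h4
      exact hz1 h4
  -- noncommuting components
  obtain ⟨i, j, v, hv, w, hw, hvw⟩ : ∃ i j : Bool, ∃ v ∈ W i, ∃ w ∈ W j,
      v * (g * w * g⁻¹) ≠ g * w * g⁻¹ * v := by
    by_contra hcon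
    push Not at hcon
    apply hBV
    have h1 : ∀ j, (W j).map (MulAut.conj g).toMonoidHom ≤ centralizer (V : Set G) := by
      intro j
      rw [le_centralizer_iff, ← D.sup]
      refine sup_le ?_ ?_
      · intro v hv
        refine mem_centralizer_iff.2 ?_
        rintro _ ⟨w, hw, rfl⟩
        exact (hcon true j v hv w hw).symm
      · intro v hv
        refine mem_centralizer_iff.2 ?_
        rintro _ ⟨w, hw, rfl⟩
        exact (hcon false j v hv w hw).symm
    have h2 : V.map (MulAut.conj g).toMonoidHom =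
        (W true).map (MulAut.conj g).toMonoidHom ⊔ (W false).map (MulAut.conj g).toMonoidHom := by
      rw [← Subgroup.map_sup, D.sup]
    rw [h2]
    exact sup_le (h1 true) (h1 false)
  set b := g * w * g⁻¹ with hb
  have hbWj : b ∈ (W j).map (MulAut.conj g).toMonoidHom := ⟨w, hw, rfl⟩
  have hWB : ∀ j, (W j).map (MulAut.conj g).toMonoidHom ≤ V.map (MulAut.conj g).toMonoidHom :=
    fun j => Subgroup.map_mono (D.le j)
  have hbB := hWB j hbWj
  have hvV := D.le i hv
  set e := v * b * v⁻¹ * b⁻¹ with he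
  have he1 : e ≠ 1 := by
    intro h1
    apply hvw
    calc v * b = v * b * v⁻¹ * b⁻¹ * b * v := by group
      _ = b * v := by rw [← he, h1, one_mul]
  have heW : e ∈ W i := by
    have h1 : e = v * (b * v⁻¹ * b⁻¹) := by rw [he]; group
    rw [h1]
    exact mul_mem hv ((mem_normalizer_iff.1 (hn1 i b hbB) _).1 (inv_mem hv))
  have heB : e ∈ (W j).map (MulAut.conj g).toMonoidHom :=
    mul_mem ((mem_normalizer_iff.1 (hn2 j v hvV) _).1 hbWj) (inv_mem hbWj)
  -- the components of `z`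
  have hzB : z ∈ V.map (MulAut.conj g).toMonoidHom := ⟨z, hzV, hzg⟩
  have hci : c i = e := by
    refine PlaneAct.fixed_unique (D.card i) (hW2 i) (t := b) ⟨v, hv, ?_⟩ (hcW i) heW (hc1 i) he1
      ?_ ?_
    · intro h1
      apply hvw
      calc v * b = b * v * b⁻¹ * b := by rw [h1]
        _ = b * v := by group
    · refine comp_fixed (hinf i) (hn1 i b hbB) (hn1 _ b hbB) (hcW i) (hcW _) ?_
      rw [hcz i, conj_comm_of hVc g b hbB z hzB]; group
    · rw [conj_comm_of hVc g b hbB e (hWB j heB)]; group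
  have hcj : g * c j * g⁻¹ = e := by
    refine PlaneAct.fixed_unique ((card_conj (W j) g).trans (D.card j))
      (conj_sq_of (hW2 j) g) (t := v) ⟨b, hbWj, ?_⟩ ⟨c j, hcW j, rfl⟩ heB ?_ he1 ?_ ?_
    · intro h1
      apply hvw
      calc v * b = v * b * v⁻¹ * v := by group
        _ = b * v := by rw [h1]
    · intro h1
      apply hc1 j
      have := congrArg (fun x => g⁻¹ * x * g) h1
      simpa [mul_assoc] using this
    · refine comp_fixed (A1 := (W j).map (MulAut.conj g).toMonoidHom)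
        (A2 := (W (!j)).map (MulAut.conj g).toMonoidHom) (c2 := g * c (!j) * g⁻¹) ?_
        (hn2 j v hvV) (hn2 _ v hvV) ⟨c j, hcW j, rfl⟩ ⟨c (!j), hcW _, rfl⟩ ?_
      · rw [← Subgroup.map_inf _ _ _ (MulAut.conj g).injective, hinf j, Subgroup.map_bot]
      · have h1 : g * c j * g⁻¹ * (g * c (!j) * g⁻¹) = z := by
          rw [← hzg, ← hcz j]; group
        rw [h1, hVc v hvV z hzV]; group
    · rw [hVc v hvV e (D.le i heW)]; group
  have hf : c (!i) = g * c (!j) * g⁻¹ := by
    have h1 : c i * c (!i) = g * c j * g⁻¹ * (g * c (!j) * g⁻¹) := by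
      rw [hcz i]
      conv_lhs => rw [← hzg, ← hcz j]
      group
    rw [hci, hcj] at h1
    exact mul_left_cancel h1
  -- killing
  refine killing_centralizer (locSolv' h.hyp) (X := W i ⊔ _root_.Subgroup.closure {d i})
    (Y := (W j).map (MulAut.conj g).toMonoidHom ⊔ _root_.Subgroup.closure {g * d j * g⁻¹}) (v := e)
    (mem_sup_left heW) he1 (V := W i) (W := (W j).map (MulAut.conj g).toMonoidHom) ?_ ?_ ?_
    (u := c (!i)) ?_ ?_ ?_
  · exact le_ncl (D.card i) (hW2 i) (D.dn i) (D.ne i) (D.cube i)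
      (mem_sup_right (_root_.Subgroup.subset_closure (Set.mem_singleton _))) heW he1
  · have hdY : g * d j * g⁻¹ ∈
        (W j).map (MulAut.conj g).toMonoidHom ⊔ _root_.Subgroup.closure {g * d j * g⁻¹} :=
      mem_sup_right (_root_.Subgroup.subset_closure (Set.mem_singleton _))
    refine le_ncl ((card_conj (W j) g).trans (D.card j)) (conj_sq_of (hW2 j) g)
      (d := g * d j * g⁻¹) ?_ ?_ ?_ hdY heB he1
    · apply conj_mem_map
      have e1 : g⁻¹ * (g * d j * g⁻¹) * g = d j := by group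
      rw [e1]
      exact D.dn j
    · obtain ⟨u, hu, hu2⟩ := D.ne j
      refine ⟨g * u * g⁻¹, ⟨u, hu, rfl⟩, fun h1 => hu2 ?_⟩
      have h2 := congrArg (fun x => g⁻¹ * x * g) h1
      calc d j * u * (d j)⁻¹ =
          g⁻¹ * (g * d j * g⁻¹ * (g * u * g⁻¹) * (g * d j * g⁻¹)⁻¹) * g := by group
        _ = g⁻¹ * (g * u * g⁻¹) * g := h2
        _ = u := by group
    · rintro _ ⟨u, hu, rfl⟩
      change (g * d j * g⁻¹) ^ 3 * (g * u * g⁻¹) * ((g * d j * g⁻¹) ^ 3)⁻¹ = g * u * g⁻¹
      calc (g * d j * g⁻¹) ^ 3 * (g * u * g⁻¹) * ((g * d j * g⁻¹) ^ 3)⁻¹ =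
          g * (d j ^ 3 * u * (d j ^ 3)⁻¹) * g⁻¹ := by rw [conj_pow]; group
        _ = g * u * g⁻¹ := by rw [D.cube j u hu]
  · exact commutator_mem_commutator hv hbWj
  · exact orderOf_eq_prime (hW2 _ _ (hcW _)) (hc1 _)
  · refine sup_le ?_ ?_
    · intro x hx
      refine mem_centralizer_iff.2 ?_
      rintro _ rfl
      exact (hWc i x hx _ (D.le _ (hcW _))).symm
    · rw [closure_le, Set.singleton_subset_iff]
      refine mem_centralizer_iff.2 ?_
      rintro _ rfl
      exact (D.dc i _ (hcW _)).symm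
  · refine sup_le ?_ ?_
    · rintro _ ⟨x, hx, rfl⟩
      refine mem_centralizer_iff.2 ?_
      rintro _ rfl
      rw [hf]
      change g * c (!j) * g⁻¹ * (g * x * g⁻¹) = g * x * g⁻¹ * (g * c (!j) * g⁻¹)
      calc g * c (!j) * g⁻¹ * (g * x * g⁻¹) = g * (c (!j) * x) * g⁻¹ := by group
        _ = g * (x * c (!j)) * g⁻¹ := by rw [hWc _ _ (hcW _) x (D.le _ hx)]
        _ = g * x * g⁻¹ * (g * c (!j) * g⁻¹) := by group
    · rw [closure_le, Set.singleton_subset_iff]
      refine mem_centralizer_iff.2 ?_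
      rintro _ rfl
      rw [hf]
      calc g * c (!j) * g⁻¹ * (g * d j * g⁻¹) = g * (c (!j) * d j) * g⁻¹ := by group
        _ = g * (d j * c (!j)) * g⁻¹ := by rw [D.dc j _ (hcW _)]
        _ = g * d j * g⁻¹ * (g * c (!j) * g⁻¹) := by group

end Cfsg.Agent.SectRankFour.C2.BTwoA

private theorem dce_711f284cf2e6 : _root_.True := by
  try have : _root_.True := by simp only [_root_.Cfsg.Agent.SectRankFour.C2.Defs.vh.eq_1]
  try have : _root_.True := by simp only [_root_.Cfsg.Agent.SectRankFour.C2.Defs.cl.eq_1]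
  exact _root_.True.intro
end

-- part: SectRankFour/C2/BTwoC
section
set_option linter.all false

/-!
# S0517, C2, section 2: `V^` not abelian
-/

set_option autoImplicit false

namespace Cfsg.Agent.SectRankFour.C2.BTwoC

open Subgroup Cfsg Cfsg.Agent.ZN Cfsg.Agent.SectRankFour.C2.Defs
open Cfsg.Agent.MinSimple.MinParabolic Cfsg.Agent.MinSimple.VModule

variable {G : Type*} [Group G] [Finite G] {S P1 P2 : Subgroup G}

/-- (2c) -/
theorem conf64 (h : Pair S P1 P2) (hV : zl S P1 ≤ o2 P2)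
    (hna : ¬ ∀ x ∈ vh S P1 P2, ∀ y ∈ vh S P1 P2, x * y = y * x)
    (h4 : Nat.card (zl S P1) = 4) (h3 : S.relIndex P2 = 3) :
    ∃ a b u s x, Conf64 S P1 a b u s x := by
  obtain ⟨z, z1, z2, v1, v2, y, w, hd, hP⟩ := BTwoCGlue.exists_data h hV hna h4 h3
  exact BTwoCConf.conf64 hd hP

/-- Section 2: if `V^` is not abelian then the configuration of order 64 occurs. -/
theorem main (h : Pair S P1 P2) (hV : zl S P1 ≤ o2 P2)
    (hna : ¬ ∀ x ∈ vh S P1 P2, ∀ y ∈ vh S P1 P2, x * y = y * x) :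
    ∃ a b u s x, Conf64 S P1 a b u s x := by
  have h4 := BTwoA.card_eq_four h hV hna
  exact conf64 h hV hna h4 (BTwoB.relIndex_eq_three h hV hna h4)

end Cfsg.Agent.SectRankFour.C2.BTwoC
end

-- part: SectRankFour/C2/LemmaT
section
set_option linter.all false
open scoped Cfsg.Agent.FastGrp

/-!
# Lemma T: the choice of the pair of minimal parabolics

* `AbFit`: a solvable group `Y` with `O₂(Y) = 1`, generated by 2-elements, whose order has odd part
  dividing 315: the elements of odd order lie in an abelian normal subgroup;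
* `oddGen_normalizer`: in sectional 2-rank at most 4, if `O₂(⟨P, P'⟩) ≠ 1` then `P'` normalises
  `O²(P)`;
* `exists_partner`: Lemma T;
* `exists_pair`: either `C_G(Z) ≤ N_G(S)` or there is a `Pair S P1 P2`.
-/

set_option autoImplicit false
set_option linter.unusedSectionVars false
set_option linter.unusedVariables false

namespace Cfsg.Agent.SectRankFour.C2.LemmaT

open Subgroup Cfsg Cfsg.Agent.MinSimple.MinParabolic Cfsg.Agent.MinSimple.VModule
open Cfsg.Agent.ZN (o2 zc zl)
open Cfsg.Agent.SectRankFour.C2.Defs Cfsg.Agent.SectRankFour.C2.ActFour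
open Cfsg.Agent.SectRankFour.C2.ParFacts
open Cfsg.Agent.SectRankFour.C2.Par (Sec)
open scoped commutatorElement

/-! ### The Fitting subgroup of `X / O₂(X)` -/

section AbFit

variable {Y : Type*} [Group Y] [Finite Y]

theorem mem_of_index {N : Subgroup Y} [N.Normal] {r : ℕ} (hr : r.Prime) (hN : ¬ r ∣ N.index) {x : Y}
    {k : ℕ} (hx : x ^ r ^ k = 1) : x ∈ N := by
  rw [← QuotientGroup.eq_one_iff, ← orderOf_eq_one_iff]
  have h1 : orderOf (x : Y ⧸ N) ∣ r ^ k := orderOf_dvd_of_pow_eq_one (by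
    rw [← QuotientGroup.mk_pow, hx, QuotientGroup.mk_one])
  have h2 : orderOf (x : Y ⧸ N) ∣ N.index := by
    rw [Subgroup.index_eq_card]; exact _root_.orderOf_dvd_natCard _
  have h3 : Nat.Coprime (r ^ k) N.index := Nat.Coprime.pow_left k ((Nat.Prime.coprime_iff_not_dvd hr).mpr hN)
  have h4 : orderOf (x : Y ⧸ N) ∣ 1 := by rw [← h3]; exact Nat.dvd_gcd h1 h2
  exact Nat.dvd_one.mp h4

/-- an element of prime order acting trivially by counting -/
theorem le_centralizer_of_count {r : ℕ} [Fact r.Prime] {V : Subgroup Y} [hV : V.Normal] {x : Y}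
    (hx : x ^ r = 1) (h : ∀ d, d ∣ Nat.card V → Nat.card V ≡ d [MOD r] → d = Nat.card V) :
    x ∈ centralizer (V : Set Y) := by
  have h1 := card_modEq V hx (fun v hv => hV.conj_mem v hv x)
  have h2 := h _ (card_dvd_of_le inf_le_left) h1
  have h3 : V ⊓ centralizer ({x} : Set Y) = V := Subgroup.eq_of_le_of_card_ge inf_le_left h2.ge
  refine mem_centralizer_iff.mpr fun v hv => ?_
  exact mem_centralizer_singleton_iff.mp ((inf_eq_left.mp h3) hv)

/-- `[Y, Y]` centralises a normal subgroup of prime (or trivial) order. -/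
theorem commutator_mem_centralizer {V : Subgroup Y} [hV : V.Normal] (hc : IsCyclic V) (g h : Y) :
    g * h * g⁻¹ * h⁻¹ ∈ centralizer (V : Set Y) := by
  have e := IsCyclic.mulAutMulEquiv V
  have hcomm : ∀ a b : MulAut V, a * b = b * a := fun a b => e.injective (by
    rw [map_mul, map_mul, mul_comm])
  have h1 : (MulAut.conjNormal (g * h * g⁻¹ * h⁻¹) : MulAut V) = 1 := by
    rw [map_mul, map_mul, map_mul, map_inv, map_inv, hcomm (MulAut.conjNormal g) (MulAut.conjNormal h)]
    group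
  refine mem_centralizer_iff.mpr fun v hv => ?_
  have h2 := congrArg (fun φ : MulAut V => ((φ ⟨v, hv⟩ : V) : Y)) h1
  simp only [MulAut.conjNormal_apply, MulAut.one_apply] at h2
  calc v * (g * h * g⁻¹ * h⁻¹) = (g * h * g⁻¹ * h⁻¹ * v * (g * h * g⁻¹ * h⁻¹)⁻¹) * (g * h * g⁻¹ * h⁻¹) := by
        rw [h2]
    _ = g * h * g⁻¹ * h⁻¹ * v := by group

theorem abFit [Group.IsSolvable Y] (h2 : pCore 2 Y = ⊥) {a m : ℕ} (hcard : Nat.card Y = 2 ^ a * m)
    (hm : m ∣ 315) (hgen : _root_.Subgroup.closure {y : Y | ∃ k, y ^ 2 ^ k = 1} = ⊤) :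
    ∃ F : Subgroup Y, F.Normal ∧ (∀ x ∈ F, ∀ y ∈ F, x * y = y * x) ∧
      ∀ x : Y, Odd (orderOf x) → x ∈ F := by
  classical
  have hf2 : Fact (Nat.Prime 2) := ⟨Nat.prime_two⟩
  have hf3 : Fact (Nat.Prime 3) := ⟨Nat.prime_three⟩
  have hf5 : Fact (Nat.Prime 5) := ⟨Nat.prime_five⟩
  have hf7 : Fact (Nat.Prime 7) := ⟨by norm_num⟩
  have hdvd : Nat.card Y ∣ 2 ^ a * 315 := by rw [hcard]; exact Nat.mul_dvd_mul_left _ hm
  set F := fittingSubgroup Y with hF
  have hFn : F.Normal := Lib.Cores.fittingSubgroup_normal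
  have hFc : centralizer (F : Set Y) ≤ F := Cfsg.Agent.S0044.result
  set P3 := pCore 3 Y with hP3
  set P5 := pCore 5 Y with hP5
  set P7 := pCore 7 Y with hP7
  have n3 : P3.Normal := Lib.Cores.pCore_normal 3
  have n5 : P5.Normal := Lib.Cores.pCore_normal 5
  have n7 : P7.Normal := Lib.Cores.pCore_normal 7
  -- orders
  have hcop : ∀ r : ℕ, r.Prime → r ≠ 2 → ∀ k, r ^ k ∣ Nat.card Y → r ^ k ∣ 315 := by
    intro r hr hr2 k hk
    refine Nat.Coprime.dvd_of_dvd_mul_left ?_ (hk.trans hdvd)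
    exact Nat.Coprime.pow _ _ ((Nat.coprime_primes hr Nat.prime_two).mpr hr2)
  have c3 : Nat.card P3 ∣ 9 := by
    obtain ⟨k, hk⟩ := IsPGroup.iff_card.mp (Lib.Cores.pCore_isPGroup (G := Y) 3)
    have h1 := hcop 3 Nat.prime_three (by norm_num) k (hk ▸ Subgroup.card_subgroup_dvd_card _)
    rw [hP3, hk]
    have h3 : k ≤ 2 := by
      by_contra h3
      have h5 : 3 ^ 3 ∣ 315 := (pow_dvd_pow 3 (by omega)).trans h1
      revert h5; decide
    exact (pow_dvd_pow 3 h3)
  have c5 : Nat.card P5 ∣ 5 := by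
    obtain ⟨k, hk⟩ := IsPGroup.iff_card.mp (Lib.Cores.pCore_isPGroup (G := Y) 5)
    have h1 := hcop 5 Nat.prime_five (by norm_num) k (hk ▸ Subgroup.card_subgroup_dvd_card _)
    rw [hP5, hk]
    have h3 : k ≤ 1 := by
      by_contra h3
      have h5 : 5 ^ 2 ∣ 315 := (pow_dvd_pow 5 (by omega)).trans h1
      revert h5; decide
    exact (pow_dvd_pow 5 h3)
  have c7 : Nat.card P7 ∣ 7 := by
    obtain ⟨k, hk⟩ := IsPGroup.iff_card.mp (Lib.Cores.pCore_isPGroup (G := Y) 7)
    have h1 := hcop 7 (by norm_num) (by norm_num) k (hk ▸ Subgroup.card_subgroup_dvd_card _)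
    rw [hP7, hk]
    have h3 : k ≤ 1 := by
      by_contra h3
      have h5 : 7 ^ 2 ∣ 315 := (pow_dvd_pow 7 (by omega)).trans h1
      revert h5; decide
    exact (pow_dvd_pow 7 h3)
  -- `F ≤ P3 P5 P7`
  have hFle : F ≤ P3 ⊔ P5 ⊔ P7 := by
    rw [hF, Lib.Cores.fittingSubgroup_eq_iSup_pCore]
    refine iSup_le fun p => ?_
    have hp : Fact (p : ℕ).Prime := ⟨p.2⟩
    by_cases e2 : (p : ℕ) = 2
    · rw [e2, h2]; exact bot_le
    by_cases e3 : (p : ℕ) = 3
    · rw [e3]; exact le_sup_left.trans le_sup_left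
    by_cases e5 : (p : ℕ) = 5
    · rw [e5]; exact le_sup_right.trans le_sup_left
    by_cases e7 : (p : ℕ) = 7
    · rw [e7]; exact le_sup_right
    · obtain ⟨k, hk⟩ := IsPGroup.iff_card.mp (Lib.Cores.pCore_isPGroup (G := Y) (p : ℕ))
      have h1 := hcop p p.2 e2 k (hk ▸ Subgroup.card_subgroup_dvd_card _)
      have h3 : k = 0 := by
        by_contra h3
        have h4 : (p : ℕ) ∣ 3 * (3 * (5 * 7)) := (dvd_pow_self _ h3).trans h1
        rcases (Nat.Prime.dvd_mul p.2).mp h4 with h5 | h5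
        · exact e3 ((Nat.prime_dvd_prime_iff_eq p.2 Nat.prime_three).mp h5)
        rcases (Nat.Prime.dvd_mul p.2).mp h5 with h5 | h5
        · exact e3 ((Nat.prime_dvd_prime_iff_eq p.2 Nat.prime_three).mp h5)
        rcases (Nat.Prime.dvd_mul p.2).mp h5 with h5 | h5
        · exact e5 ((Nat.prime_dvd_prime_iff_eq p.2 Nat.prime_five).mp h5)
        · exact e7 ((Nat.prime_dvd_prime_iff_eq p.2 (by norm_num)).mp h5)
      rw [h3, pow_zero] at hk
      rw [Subgroup.card_eq_one.mp hk]
      exact bot_le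
  -- the `P_r` commute
  have hcommrs : ∀ A B : Subgroup Y, A.Normal → B.Normal → (Nat.card A).Coprime (Nat.card B) →
      A ≤ centralizer (B : Set Y) := by
    intro A B hA hB hAB
    have h1 : A ⊓ B = ⊥ := (Subgroup.disjoint_of_coprime_natCard hAB).eq_bot
    rw [← Subgroup.commutator_eq_bot_iff_le_centralizer, ← le_bot_iff, ← h1]
    exact Subgroup.commutator_le_inf A B
  have k35 : (Nat.card P3).Coprime (Nat.card P5) := Nat.Coprime.coprime_dvd_left c3 (Nat.Coprime.coprime_dvd_right c5 (by norm_num))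
  have k37 : (Nat.card P3).Coprime (Nat.card P7) := Nat.Coprime.coprime_dvd_left c3 (Nat.Coprime.coprime_dvd_right c7 (by norm_num))
  have k57 : (Nat.card P5).Coprime (Nat.card P7) := Nat.Coprime.coprime_dvd_left c5 (Nat.Coprime.coprime_dvd_right c7 (by norm_num))
  have hself : ∀ (A : Subgroup Y) (r : ℕ) [Fact r.Prime], Nat.card A ∣ r ^ 2 →
      A ≤ centralizer (A : Set Y) := by
    intro A r _ hA
    have hr : r.Prime := Fact.out
    obtain ⟨k, hk, hk2⟩ := (Nat.dvd_prime_pow hr).mp hA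
    refine fun x hx => mem_centralizer_iff.mpr fun y hy => ?_
    interval_cases k
    · rw [pow_zero] at hk2
      have h1 := Subgroup.card_eq_one.mp hk2
      have hx : x ∈ A := hx
      have hy : y ∈ A := hy
      rw [h1, Subgroup.mem_bot] at hx hy
      rw [hx, hy]
    · rw [pow_one] at hk2
      have : IsCyclic A := isCyclic_of_prime_card hk2
      exact congrArg Subtype.val ((IsCyclic.commGroup (α := A)).mul_comm ⟨y, hy⟩ ⟨x, hx⟩)
    · have := IsPGroup.isMulCommutative_of_card_eq_prime_sq hk2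
      exact congrArg Subtype.val (this.is_comm.comm (⟨y, hy⟩ : A) ⟨x, hx⟩)
  have hcyc : ∀ (A : Subgroup Y) (r : ℕ), r.Prime → Nat.card A ∣ r → IsCyclic A := by
    intro A r hr hA
    rcases (Nat.dvd_prime hr).mp hA with h1 | h1
    · have : Subsingleton A := (Nat.card_eq_one_iff_unique.mp h1).1
      exact isCyclic_of_subsingleton
    · have : Fact r.Prime := ⟨hr⟩
      exact isCyclic_of_prime_card h1
  have hFcomm : F ≤ centralizer (F : Set Y) := by
    have h1 : P3 ⊔ P5 ⊔ P7 ≤ centralizer ((P3 ⊔ P5 ⊔ P7 : Subgroup Y) : Set Y) := by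
      have key : ∀ A : Subgroup Y, A ≤ centralizer (P3 : Set Y) → A ≤ centralizer (P5 : Set Y) →
          A ≤ centralizer (P7 : Set Y) → A ≤ centralizer ((P3 ⊔ P5 ⊔ P7 : Subgroup Y) : Set Y) := by
        intro A h3 h5 h7
        rw [Subgroup.le_centralizer_iff]
        exact sup_le (sup_le (Subgroup.le_centralizer_iff.mp h3) (Subgroup.le_centralizer_iff.mp h5))
          (Subgroup.le_centralizer_iff.mp h7)
      refine sup_le (sup_le (key _ (hself P3 3 c3) (hcommrs _ _ n3 n5 k35) (hcommrs _ _ n3 n7 k37))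
        (key _ (hcommrs _ _ n5 n3 k35.symm) (hself P5 5 (c5.trans (by norm_num)))
          (hcommrs _ _ n5 n7 k57))) (key _ (hcommrs _ _ n7 n3 k37.symm) (hcommrs _ _ n7 n5 k57.symm)
          (hself P7 7 (c7.trans (by norm_num))))
    exact hFle.trans (h1.trans (centralizer_le hFle))
  have hcent : ∀ x : Y, x ∈ centralizer (P3 : Set Y) → x ∈ centralizer (P5 : Set Y) →
      x ∈ centralizer (P7 : Set Y) → x ∈ F := by
    intro x h3 h5 h7
    apply hFc
    have h1 : P3 ⊔ P5 ⊔ P7 ≤ centralizer ({x} : Set Y) := by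
      refine sup_le (sup_le (fun y hy => ?_) (fun y hy => ?_)) (fun y hy => ?_)
      · exact mem_centralizer_singleton_iff.mpr (mem_centralizer_iff.mp h3 y hy)
      · exact mem_centralizer_singleton_iff.mpr (mem_centralizer_iff.mp h5 y hy)
      · exact mem_centralizer_singleton_iff.mpr (mem_centralizer_iff.mp h7 y hy)
    exact mem_centralizer_iff.mpr fun y hy => mem_centralizer_singleton_iff.mp (h1 (hFle hy))
  have l3 : P3 ≤ F := Lib.Cores.pCore_le_fittingSubgroup 3
  have l5 : P5 ≤ F := Lib.Cores.pCore_le_fittingSubgroup 5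
  have l7 : P7 ≤ F := Lib.Cores.pCore_le_fittingSubgroup 7
  -- `r`-elements
  have hr5 : ∀ (x : Y) (k : ℕ), x ^ 5 ^ k = 1 → x ∈ F := by
    intro x k hx
    by_cases hi : 5 ∣ P5.index
    · -- then `P5 = 1` and `x^5 = 1`
      have hx5 : x ^ 5 = 1 := by
        obtain ⟨j, hj, hj2⟩ := (Nat.dvd_prime_pow Nat.prime_five).mp (orderOf_dvd_of_pow_eq_one hx)
        have h3 : j ≤ 1 := by
          by_contra h3
          have h4 := hcop 5 Nat.prime_five (by norm_num) j (hj2 ▸ _root_.orderOf_dvd_natCard x)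
          have h5 : 5 ^ 2 ∣ 315 := (pow_dvd_pow 5 (by omega)).trans h4
          revert h5; decide
        rw [← orderOf_dvd_iff_pow_eq_one, hj2]
        exact pow_dvd_pow 5 h3
      have hb : Nat.card P5 = 1 := by
        rcases (Nat.dvd_prime Nat.prime_five).mp c5 with h | h
        · exact h
        · exfalso
          have h4 : 5 ^ 2 ∣ Nat.card Y := by
            rw [← Subgroup.card_mul_index P5, h, pow_two]
            exact Nat.mul_dvd_mul_left _ hi
          have h5 := hcop 5 Nat.prime_five (by norm_num) 2 h4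
          revert h5; decide
      refine hcent x (le_centralizer_of_count (r := 5) hx5 ?_) ?_
        (le_centralizer_of_count (r := 5) hx5 ?_)
      · have h4 : Nat.card P3 ∈ Nat.divisors 9 := Nat.mem_divisors.mpr ⟨c3, by norm_num⟩
        have h6 : Nat.divisors 9 = {1, 3, 9} := by decide
        rw [h6] at h4
        simp only [Finset.mem_insert, Finset.mem_singleton] at h4
        intro d hd hmod
        have h7 : d ∈ Nat.divisors 9 := Nat.mem_divisors.mpr ⟨hd.trans c3, by norm_num⟩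
        rw [h6] at h7
        simp only [Finset.mem_insert, Finset.mem_singleton] at h7
        rcases h4 with h | h | h <;> rw [h] at hmod hd ⊢ <;> rcases h7 with rfl | rfl | rfl <;>
          first | rfl | (exfalso; revert hmod; decide)
      · rw [Subgroup.card_eq_one.mp hb]
        refine mem_centralizer_iff.mpr fun y hy => ?_
        rw [Subgroup.mem_bot.mp hy]; simp
      · intro d hd hmod
        rcases (Nat.dvd_prime (by norm_num)).mp c7 with h | h <;> rw [h] at hmod hd ⊢
        · exact Nat.dvd_one.mp hd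
        · rcases (Nat.dvd_prime (by norm_num)).mp hd with rfl | rfl
          · exfalso; revert hmod; decide
          · rfl
    · exact l5 (mem_of_index Nat.prime_five hi hx)
  have hr7 : ∀ (x : Y) (k : ℕ), x ^ 7 ^ k = 1 → x ∈ F := by
    intro x k hx
    by_cases hi : 7 ∣ P7.index
    · have hx7 : x ^ 7 = 1 := by
        obtain ⟨j, hj, hj2⟩ := (Nat.dvd_prime_pow (by norm_num : Nat.Prime 7)).mp
          (orderOf_dvd_of_pow_eq_one hx)
        have h3 : j ≤ 1 := by
          by_contra h3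
          have h4 := hcop 7 (by norm_num) (by norm_num) j (hj2 ▸ _root_.orderOf_dvd_natCard x)
          have h5 : 7 ^ 2 ∣ 315 := (pow_dvd_pow 7 (by omega)).trans h4
          revert h5; decide
        rw [← orderOf_dvd_iff_pow_eq_one, hj2]
        exact pow_dvd_pow 7 h3
      have hb : Nat.card P7 = 1 := by
        rcases (Nat.dvd_prime (by norm_num)).mp c7 with h | h
        · exact h
        · exfalso
          have h4 : 7 ^ 2 ∣ Nat.card Y := by
            rw [← Subgroup.card_mul_index P7, h, pow_two]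
            exact Nat.mul_dvd_mul_left _ hi
          have h5 := hcop 7 (by norm_num) (by norm_num) 2 h4
          revert h5; decide
      refine hcent x (le_centralizer_of_count (r := 7) hx7 ?_)
        (le_centralizer_of_count (r := 7) hx7 ?_) ?_
      · have h4 : Nat.card P3 ∈ Nat.divisors 9 := Nat.mem_divisors.mpr ⟨c3, by norm_num⟩
        have h6 : Nat.divisors 9 = {1, 3, 9} := by decide
        rw [h6] at h4
        simp only [Finset.mem_insert, Finset.mem_singleton] at h4
        intro d hd hmod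
        have h7 : d ∈ Nat.divisors 9 := Nat.mem_divisors.mpr ⟨hd.trans c3, by norm_num⟩
        rw [h6] at h7
        simp only [Finset.mem_insert, Finset.mem_singleton] at h7
        rcases h4 with h | h | h <;> rw [h] at hmod hd ⊢ <;> rcases h7 with rfl | rfl | rfl <;>
          first | rfl | (exfalso; revert hmod; decide)
      · intro d hd hmod
        rcases (Nat.dvd_prime Nat.prime_five).mp c5 with h | h <;> rw [h] at hmod hd ⊢
        · exact Nat.dvd_one.mp hd
        · rcases (Nat.dvd_prime Nat.prime_five).mp hd with rfl | rfl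
          · exfalso; revert hmod; decide
          · rfl
      · rw [Subgroup.card_eq_one.mp hb]
        refine mem_centralizer_iff.mpr fun y hy => ?_
        rw [Subgroup.mem_bot.mp hy]; simp
    · exact l7 (mem_of_index (by norm_num) hi hx)
  have hr3 : ∀ (x : Y) (k : ℕ), x ^ 3 ^ k = 1 → x ∈ F := by
    intro x k hx
    by_cases hi : 3 ∣ P3.index
    · -- `|P3| ∣ 3`
      have hb : Nat.card P3 ∣ 3 := by
        have h4 : Nat.card P3 ∣ 3 ^ 2 := c3
        obtain ⟨j, hj, hj2⟩ := (Nat.dvd_prime_pow Nat.prime_three).mp h4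
        have h5 : j ≤ 1 := by
          by_contra h5
          have h6 : j = 2 := by omega
          have h7 : 3 ^ 3 ∣ Nat.card Y := by
            rw [← Subgroup.card_mul_index P3, hj2, h6, pow_succ]
            exact Nat.mul_dvd_mul_left _ hi
          have h8 := hcop 3 Nat.prime_three (by norm_num) 3 h7
          revert h8; decide
        rw [hj2]; exact pow_dvd_pow 3 h5
      have hc : ∀ g h : Y, g * h * g⁻¹ * h⁻¹ ∈ F := fun g h =>
        hcent _ (commutator_mem_centralizer (hcyc P3 3 Nat.prime_three hb) g h)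
          (commutator_mem_centralizer (hcyc P5 5 Nat.prime_five c5) g h)
          (commutator_mem_centralizer (hcyc P7 7 (by norm_num) c7) g h)
      -- the 2-elements modulo `F` form a subgroup
      have hqc : ∀ g h : Y ⧸ F, g * h = h * g := by
        intro g h
        obtain ⟨g, rfl⟩ := QuotientGroup.mk_surjective g
        obtain ⟨h, rfl⟩ := QuotientGroup.mk_surjective h
        rw [← mul_inv_eq_one, mul_inv_rev, ← QuotientGroup.mk_inv, ← QuotientGroup.mk_inv,
          ← QuotientGroup.mk_mul, ← QuotientGroup.mk_mul, ← QuotientGroup.mk_mul,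
          QuotientGroup.eq_one_iff]
        have := hc g h
        simpa only [mul_assoc] using this
      let T : Subgroup Y :=
        { carrier := {y | ∃ k, (y : Y ⧸ F) ^ 2 ^ k = 1}
          one_mem' := ⟨0, by simp⟩
          mul_mem' := by
            rintro y z ⟨k, hk⟩ ⟨l, hl⟩
            refine ⟨k + l, ?_⟩
            rw [QuotientGroup.mk_mul, (show Commute (y : Y ⧸ F) (z : Y ⧸ F) from hqc _ _).mul_pow,
              pow_add, pow_mul, hk, one_pow, one_mul, mul_comm, pow_mul, hl, one_pow]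
          inv_mem' := by
            rintro y ⟨k, hk⟩
            exact ⟨k, by rw [QuotientGroup.mk_inv, inv_pow, hk, inv_one]⟩ }
      have hT : T = ⊤ := by
        rw [eq_top_iff, ← hgen, closure_le]
        rintro y ⟨k, hk⟩
        exact ⟨k, by rw [← QuotientGroup.mk_pow, hk, QuotientGroup.mk_one]⟩
      obtain ⟨l, hl⟩ : x ∈ T := by rw [hT]; exact mem_top x
      rw [← QuotientGroup.eq_one_iff, ← orderOf_eq_one_iff]
      have e1 : orderOf (x : Y ⧸ F) ∣ 2 ^ l := orderOf_dvd_of_pow_eq_one hl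
      have e2 : orderOf (x : Y ⧸ F) ∣ 3 ^ k := orderOf_dvd_of_pow_eq_one (by
        rw [← QuotientGroup.mk_pow, hx, QuotientGroup.mk_one])
      have e3 : Nat.Coprime (2 ^ l) (3 ^ k) := Nat.Coprime.pow _ _ (by norm_num)
      have e4 : orderOf (x : Y ⧸ F) ∣ 1 := by rw [← e3]; exact Nat.dvd_gcd e1 e2
      exact Nat.dvd_one.mp e4
    · exact l3 (mem_of_index Nat.prime_three hi hx)
  refine ⟨F, hFn, fun x hx y hy => (mem_centralizer_iff.mp (hFcomm hy) x hx), fun x hx => ?_⟩
  refine Lib.CoprimeCommutator.induction_prime_power (zpowers x) (fun y => y ∈ F) (one_mem _)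
    (fun a _ b _ ha hb => mul_mem ha hb) ?_ x (mem_zpowers x)
  intro p n hp y hy hyn
  by_cases e2 : p = 2
  · -- `y` has odd order and is a 2-element
    subst e2
    have h1 : orderOf y ∣ 2 ^ n := orderOf_dvd_of_pow_eq_one hyn
    have h3 : orderOf y ∣ orderOf x := orderOf_dvd_of_mem_zpowers hy
    have h4 : Nat.Coprime (2 ^ n) (orderOf x) :=
      Nat.Coprime.pow_left _ (Nat.coprime_two_left.mpr hx)
    have h5 : orderOf y ∣ 1 := by rw [← h4]; exact Nat.dvd_gcd h1 h3
    rw [orderOf_eq_one_iff.mp (Nat.dvd_one.mp h5)]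
    exact one_mem _
  by_cases e3 : p = 3
  · subst e3; exact hr3 y n hyn
  by_cases e5 : p = 5
  · subst e5; exact hr5 y n hyn
  by_cases e7 : p = 7
  · subst e7; exact hr7 y n hyn
  · obtain ⟨j, hj, hj2⟩ := (Nat.dvd_prime_pow hp).mp (orderOf_dvd_of_pow_eq_one hyn)
    have h1 := hcop p hp e2 j (hj2 ▸ _root_.orderOf_dvd_natCard y)
    have h3 : j = 0 := by
      by_contra h3
      have h4 : p ∣ 3 * (3 * (5 * 7)) := (dvd_pow_self _ h3).trans h1
      rcases (Nat.Prime.dvd_mul hp).mp h4 with h5 | h5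
      · exact e3 ((Nat.prime_dvd_prime_iff_eq hp Nat.prime_three).mp h5)
      rcases (Nat.Prime.dvd_mul hp).mp h5 with h5 | h5
      · exact e3 ((Nat.prime_dvd_prime_iff_eq hp Nat.prime_three).mp h5)
      rcases (Nat.Prime.dvd_mul hp).mp h5 with h5 | h5
      · exact e5 ((Nat.prime_dvd_prime_iff_eq hp Nat.prime_five).mp h5)
      · exact e7 ((Nat.prime_dvd_prime_iff_eq hp (by norm_num)).mp h5)
    rw [h3, pow_zero] at hj2
    rw [orderOf_eq_one_iff.mp hj2]
    exact one_mem _

end AbFit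

universe u

variable {G : Type u} [Group G] [Finite G]

/-- The elements of odd order of `X` (with `O₂(X) ≠ 1`, `X` generated by 2-elements) lie in a
normal subgroup `K` of `X` with `K / O₂(X)` abelian. -/
theorem exists_abelian (hr : SectionalPRankLE 2 4 G) (S : Sylow 2 G) {X : Subgroup G}
    (hSX : (S : Subgroup G) ≤ X) (hsol : Group.IsSolvable X)
    (hc : X ⊓ centralizer (o2 X : Set G) ≤ o2 X)
    (hgen : X ≤ _root_.Subgroup.closure {y : G | y ∈ X ∧ ∃ k, y ^ 2 ^ k = 1}) :
    ∃ K : Subgroup G, K ≤ X ∧ X ≤ normalizer (K : Set G) ∧ oddGen X ≤ K ∧ o2 X ≤ K ∧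
      ∀ x ∈ K, ∀ y ∈ K, x * y * x⁻¹ * y⁻¹ ∈ o2 X := by
  classical
  have h2 : Fact (Nat.Prime 2) := ⟨Nat.prime_two⟩
  have hSyl := MinSimple.Basic.not_dvd_relIndex S hSX
  have hd := Par.relIndex_dvd hr S.isPGroup' hSyl hc
  set Q : Subgroup X := pCore 2 X with hQ
  have hQn : Q.Normal := Lib.Cores.pCore_normal 2
  have hsol' : Group.IsSolvable (X ⧸ Q) := inferInstance
  -- the order of `X / Q`
  have hQS : Q ≤ (S : Subgroup G).subgroupOf X := by
    intro x hx
    exact mem_subgroupOf.mpr (o2_le_of_sylow S.isPGroup' hSyl ⟨x, hx, rfl⟩)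
  have hcard : ∃ a, Nat.card (X ⧸ Q) = 2 ^ a * (S : Subgroup G).relIndex X := by
    have h1 : Q.relIndex ((S : Subgroup G).subgroupOf X) * ((S : Subgroup G).subgroupOf X).index =
        Q.index := Subgroup.relIndex_mul_index hQS
    have hp : IsPGroup 2 ((S : Subgroup G).subgroupOf X) :=
      S.isPGroup'.comap_of_injective _ X.subtype_injective
    obtain ⟨n, hn⟩ := IsPGroup.iff_card.mp hp
    have h3 : Q.relIndex ((S : Subgroup G).subgroupOf X) ∣ 2 ^ n := by
      rw [← hn]; exact Subgroup.relIndex_dvd_card _ _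
    obtain ⟨a, -, ha⟩ := (Nat.dvd_prime_pow Nat.prime_two).mp h3
    refine ⟨a, ?_⟩
    rw [← Subgroup.index_eq_card, ← h1, ha]
    rfl
  obtain ⟨a, hcard⟩ := hcard
  have hgen' : _root_.Subgroup.closure {y : X ⧸ Q | ∃ k, y ^ 2 ^ k = 1} = ⊤ := by
    rw [eq_top_iff]
    rintro y -
    obtain ⟨x, rfl⟩ := QuotientGroup.mk_surjective y
    have h1 : X ≤ ((_root_.Subgroup.closure {y : X ⧸ Q | ∃ k, y ^ 2 ^ k = 1}).comap
        (QuotientGroup.mk' Q)).map X.subtype := by
      refine hgen.trans ((closure_le _).mpr ?_)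
      rintro y ⟨hy, k, hk⟩
      refine ⟨⟨y, hy⟩, ?_, rfl⟩
      have h3 : (⟨y, hy⟩ : X) ^ 2 ^ k = 1 := Subtype.ext (by simpa only [_root_.SubmonoidClass.mk_pow, _root_.OneMemClass.coe_one] using hk)
      refine mem_comap.mpr (subset_closure ⟨k, ?_⟩)
      rw [← map_pow, h3, map_one]
    obtain ⟨z, hz, hzx⟩ := h1 x.2
    have : z = x := Subtype.ext hzx
    rw [← this]
    exact hz
  obtain ⟨F, hFn, hFc, hFo⟩ := abFit (Y := X ⧸ Q) (Lib.Cores.pCore_quotient_pCore 2) hcard hd hgen'
  refine ⟨(F.comap (QuotientGroup.mk' Q)).map X.subtype, map_subtype_le _,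
    le_normalizer_map_of_normal (hFn.comap _), ?_, ?_, ?_⟩
  · rw [oddGen_def, closure_le]
    rintro x ⟨hx, ho⟩
    refine ⟨⟨x, hx⟩, mem_comap.mpr (hFo _ ?_), rfl⟩
    have h1 : orderOf (QuotientGroup.mk' Q ⟨x, hx⟩) ∣ orderOf x := by
      refine orderOf_dvd_of_pow_eq_one ?_
      have h3 : (⟨x, hx⟩ : X) ^ orderOf x = 1 := Subtype.ext (by
        push_cast; exact pow_orderOf_eq_one x)
      rw [← map_pow, h3, map_one]
    exact Odd.of_dvd_nat ho h1
  · rintro _ ⟨x, hx, rfl⟩
    refine ⟨x, mem_comap.mpr ?_, rfl⟩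
    have h1 : QuotientGroup.mk' Q x = 1 := (QuotientGroup.eq_one_iff x).mpr hx
    rw [h1]; exact one_mem _
  · rintro _ ⟨x, hx, rfl⟩ _ ⟨y, hy, rfl⟩
    refine ⟨x * y * x⁻¹ * y⁻¹, ?_, by simp only [_root_.Subgroup.subtype_apply, _root_.Subgroup.coe_mul, _root_.InvMemClass.coe_inv]⟩
    show x * y * x⁻¹ * y⁻¹ ∈ Q
    have h1 := hFc _ (mem_comap.mp hx) _ (mem_comap.mp hy)
    rw [← QuotientGroup.eq_one_iff]
    show QuotientGroup.mk' Q (x * y * x⁻¹ * y⁻¹) = 1
    rw [map_mul, map_mul, map_mul, map_inv, map_inv, h1]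
    group

/-- If `O₂(X) ≠ 1` for some `X` containing `P` and `P'` then `P'` normalises `O²(P)`. -/
theorem le_normalizer_oddGen_of_local (hyp : Hyp G) (S : Sylow 2 G) {P P' R R' : Subgroup G}
    {p p' : ℕ} (h : Defs.Par (S : Subgroup G) P R p) (h' : Defs.Par (S : Subgroup G) P' R' p')
    {U : Subgroup G} (hU : IsPGroup 2 U) (hU1 : U ≠ ⊥) (hPU : P ≤ normalizer (U : Set G))
    (hPU' : P' ≤ normalizer (U : Set G)) : P' ≤ normalizer (oddGen P : Set G) := by
  have h2 : Fact (Nat.Prime 2) := ⟨Nat.prime_two⟩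
  set X := P ⊔ P' with hX
  have hSX : (S : Subgroup G) ≤ X := h.le.trans le_sup_left
  have hXU : X ≤ normalizer (U : Set G) := sup_le hPU hPU'
  -- `O₂(X) ≠ 1`
  have hoX : o2 X ≠ ⊥ := by
    have hSN := hSX.trans hXU
    have h1 : o2 (normalizer (U : Set G)) ≤ (S : Subgroup G) :=
      o2_le_of_sylow S.isPGroup' (MinSimple.Basic.not_dvd_relIndex S hSN)
    have h3 := MinSimple.Basic.o2_normal_le_o2 (h1.trans hSX) hXU
    have h4 : U ≤ o2 (normalizer (U : Set G)) := le_o2 le_normalizer hU le_rfl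
    exact fun h5 => hU1 (le_bot_iff.mp (h5 ▸ h4.trans h3))
  have hsol := MinSimple.Basic.solvable_of_o2_ne_bot hyp.locSolv hoX
  have hc := MinSimple.Basic.char2_of_o2_ne_bot hyp.char2 S hSX hoX
  -- `X` is generated by 2-elements
  have hgenP : ∀ {P R : Subgroup G} {p : ℕ}, Defs.Par (S : Subgroup G) P R p → P ≤ X →
      P ≤ _root_.Subgroup.closure {y : G | y ∈ X ∧ ∃ k, y ^ 2 ^ k = 1} := by
    intro P R p h hPX
    have hS1 : (S : Subgroup G) ≤ _root_.Subgroup.closure {y : G | y ∈ X ∧ ∃ k, y ^ 2 ^ k = 1} := by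
      intro s hs
      obtain ⟨k, hk⟩ := S.isPGroup' ⟨s, hs⟩
      exact subset_closure ⟨hSX hs, k, congrArg Subtype.val hk⟩
    conv_lhs => rw [← h.oddGen_sup]
    refine sup_le ((oddGen_le_cl h h.le (S_not_le h)).trans ((closure_le _).mpr ?_)) hS1
    rintro _ ⟨x, hx, s, hs, rfl⟩
    obtain ⟨k, hk⟩ := S.isPGroup' ⟨s, hs⟩
    have hk' : s ^ 2 ^ k = 1 := congrArg Subtype.val hk
    refine subset_closure ⟨mul_mem (mul_mem (hPX hx) (hSX hs)) (inv_mem (hPX hx)), k, ?_⟩
    rw [conj_pow, hk']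
    group
  have hgen : X ≤ _root_.Subgroup.closure {y : G | y ∈ X ∧ ∃ k, y ^ 2 ^ k = 1} :=
    sup_le (hgenP h le_sup_left) (hgenP h' le_sup_right)
  obtain ⟨K, hKX, hXK, hoK, hQK, hKc⟩ := exists_abelian hyp.rank S hSX hsol hc hgen
  have hL : oddGen P ≤ K := (oddGen_mono le_sup_left).trans hoK
  have hL' : oddGen P' ≤ K := (oddGen_mono le_sup_right).trans hoK
  -- `P'` normalises `L Q`
  have hQX : X ≤ normalizer (o2 X : Set G) := le_normalizer_o2 X
  have hnLQ : P' ≤ normalizer ((oddGen P ⊔ o2 X : Subgroup G) : Set G) := by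
    conv_lhs => rw [← h'.oddGen_sup]
    refine sup_le ?_ ?_
    · refine le_normalizer_of fun t ht x hx => ?_
      have hxK : x ∈ K := (sup_le hL hQK) hx
      have h1 := hKc t (hL' ht) x hxK
      have h3 : t * x * t⁻¹ = (t * x * t⁻¹ * x⁻¹) * x := by group
      rw [h3]
      exact mul_mem (mem_sup_right h1) hx
    · intro s hs
      rw [mem_normalizer_iff_map_conj_eq, Subgroup.map_sup,
        mem_normalizer_iff_map_conj_eq.mp (le_normalizer_oddGen P (h.le hs)),
        mem_normalizer_iff_map_conj_eq.mp (hQX (hSX hs))]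
  -- `L = O²(L Q)`
  have hQP : o2 X ≤ P := (o2_le_of_sylow S.isPGroup' (MinSimple.Basic.not_dvd_relIndex S hSX)).trans h.le
  have heq : oddGen (oddGen P ⊔ o2 X) = oddGen P := by
    apply le_antisymm (oddGen_mono (sup_le (oddGen_le P) hQP))
    rw [oddGen_def, closure_le]
    rintro x ⟨hx, ho⟩
    exact mem_oddGen (mem_sup_left (mem_oddGen hx ho)) ho
  rw [← heq]
  exact hnLQ.trans (normalizer_le_normalizer_oddGen _)

theorem map_lt_of_inj {f : G →* G} (hf : Function.Injective f) {A B : Subgroup G} (h : A < B) :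
    A.map f < B.map f :=
  lt_of_le_of_ne (map_mono h.le) fun he => h.ne (Subgroup.map_injective hf he)

/-- **Lemma T**: if no maximal 2-local contains all 2-locals over `S` then every minimal parabolic
has a partner. -/
theorem exists_partner (hyp : Hyp G) (S : Sylow 2 G)
    (hC1 : ¬ ∃ M : Subgroup G, IsMaximalTwoLocal M ∧ (S : Subgroup G) ≤ M ∧
      ∀ N : Subgroup G, IsTwoLocal N → (S : Subgroup G) ≤ N → N ≤ M)
    {P : Subgroup G} (hP : IsMinPar (S : Subgroup G) P) (hPo : o2 P ≠ ⊥) :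
    ∃ P' : Subgroup G, IsMinPar (S : Subgroup G) P' ∧ o2 P' ≠ ⊥ ∧
      ∀ U : Subgroup G, IsPGroup 2 U → P ≤ normalizer (U : Set G) →
        P' ≤ normalizer (U : Set G) → U = ⊥ := by
  by_contra hcon
  push Not at hcon
  have h2 : Fact (Nat.Prime 2) := ⟨Nat.prime_two⟩
  obtain ⟨R, p, h⟩ := Par.exists_par hyp.rank hyp.locSolv hyp.char2 S hP hPo
  set L := oddGen P with hL
  -- every minimal parabolic normalises `L`
  have hall : ∀ P' : Subgroup G, IsMinPar (S : Subgroup G) P' → o2 P' ≠ ⊥ →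
      P' ≤ normalizer (L : Set G) := by
    intro P' hP' hPo'
    obtain ⟨R', p', h'⟩ := Par.exists_par hyp.rank hyp.locSolv hyp.char2 S hP' hPo'
    obtain ⟨U, hU, hPU, hPU', hU1⟩ := hcon P' hP' hPo'
    exact le_normalizer_oddGen_of_local hyp S h h' hU hU1 hPU hPU'
  -- the group generated by the minimal parabolics
  set Y : Subgroup G := sSup {P' | IsMinPar (S : Subgroup G) P' ∧ o2 P' ≠ ⊥} with hY
  have hPY : ∀ P' : Subgroup G, IsMinPar (S : Subgroup G) P' → o2 P' ≠ ⊥ → P' ≤ Y :=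
    fun P' h1 h3 => le_sSup ⟨h1, h3⟩
  have hSY : (S : Subgroup G) ≤ Y := hP.le.trans (hPY P hP hPo)
  have hYL : Y ≤ normalizer (L : Set G) := sSup_le fun P' hP' => hall P' hP'.1 hP'.2
  -- `O₂(L) ≠ 1`
  have hoL : o2 L ≠ ⊥ := by
    intro h1
    have hLP : L ≤ P := oddGen_le P
    have h3 : ⁅L, o2 P⁆ ≤ o2 L := by
      have h4 : ⁅L, o2 P⁆ ≤ L ⊓ o2 P := by
        refine le_inf ?_ ?_
        · rw [Subgroup.commutator_le]
          intro l hl q hq
          rw [commutatorElement_def]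
          have h5 : q * l⁻¹ * q⁻¹ ∈ L :=
            (mem_normalizer_iff.mp (le_normalizer_oddGen P ((o2_le P) hq)) _).mp (inv_mem hl)
          have h6 : l * q * l⁻¹ * q⁻¹ = l * (q * l⁻¹ * q⁻¹) := by group
          rw [h6]; exact mul_mem hl h5
        · rw [Subgroup.commutator_le]
          intro l hl q hq
          rw [commutatorElement_def]
          exact mul_mem ((mem_normalizer_iff.mp (le_normalizer_o2 P (hLP hl)) _).mp hq) (inv_mem hq)
      refine h4.trans (le_o2 inf_le_left ((o2_isPGroup P).to_le inf_le_right) ?_)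
      refine le_normalizer_of fun t ht x hx => mem_inf.mpr ⟨mul_mem (mul_mem ht hx.1) (inv_mem ht), ?_⟩
      exact (mem_normalizer_iff.mp (le_normalizer_o2 P (hLP ht)) x).mp hx.2
    rw [h1, le_bot_iff, Subgroup.commutator_eq_bot_iff_le_centralizer] at h3
    have h4 : L ≤ o2 P := (le_inf hLP h3).trans h.char2
    have h5 : R ≤ o2 P ⊓ R := le_inf (h.R_le_oddGen.trans h4) le_rfl
    rw [o2_inf_R h] at h5
    have h6 := one_lt_card_R h
    rw [le_bot_iff.mp h5, Subgroup.card_bot] at h6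
    exact absurd h6 (by norm_num)
  have hoY : o2 Y ≠ ⊥ := by
    have h1 : o2 L ≤ o2 Y := by
      refine le_o2 ((o2_le L).trans ((oddGen_le P).trans (hPY P hP hPo))) (o2_isPGroup L) ?_
      intro y hy
      have h3 := hYL hy
      -- `o2 L` is characteristic in `L`
      rw [mem_normalizer_iff_map_conj_eq]
      have h4 := MinSimple.Geo.cj_o2 y L
      rw [show MinSimple.Geo.cj y (o2 L) = (o2 L).map (MulAut.conj y).toMonoidHom from rfl,
        MinSimple.Geo.cj_eq_of_mem_normalizer h3] at h4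
      exact h4
    exact fun h3 => hoL (le_bot_iff.mp (h3 ▸ h1))
  -- `N_G(S)` normalises `Y`
  have hNY : normalizer ((S : Subgroup G) : Set G) ≤ normalizer (Y : Set G) := by
    have hS1 : ∀ g ∈ normalizer ((S : Subgroup G) : Set G), ∀ P' : Subgroup G,
        IsMinPar (S : Subgroup G) P' ∧ o2 P' ≠ ⊥ →
        IsMinPar (S : Subgroup G) (P'.map (MulAut.conj g).toMonoidHom) ∧
          o2 (P'.map (MulAut.conj g).toMonoidHom) ≠ ⊥ := by
      rintro g hg P' ⟨h1, h3⟩
      have hSg : (S : Subgroup G).map (MulAut.conj g).toMonoidHom = S :=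
        mem_normalizer_iff_map_conj_eq.mp hg
      have hginv : (S : Subgroup G).map (MulAut.conj g⁻¹).toMonoidHom = S :=
        mem_normalizer_iff_map_conj_eq.mp (inv_mem hg)
      have hmm : ∀ K : Subgroup G, (K.map (MulAut.conj g⁻¹).toMonoidHom).map
          (MulAut.conj g).toMonoidHom = K := by
        intro K
        have := MinSimple.Geo.cj_cj_inv g K
        exact this
      have hmm' : ∀ K : Subgroup G, (K.map (MulAut.conj g).toMonoidHom).map
          (MulAut.conj g⁻¹).toMonoidHom = K := by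
        intro K
        have := MinSimple.Geo.cj_inv_cj g K
        exact this
      refine ⟨⟨?_, ?_, ?_⟩, ?_⟩
      · conv_lhs => rw [← hSg]
        exact map_mono h1.le
      · intro h4
        apply h1.not_le
        intro x hx
        have h5 := h4 ⟨x, hx, rfl⟩
        have h6 : g⁻¹ * (g * x * g⁻¹) * g⁻¹⁻¹ ∈ normalizer ((S : Subgroup G) : Set G) :=
          mul_mem (mul_mem (inv_mem hg) h5) (inv_mem (inv_mem hg))
        have h7 : g⁻¹ * (g * x * g⁻¹) * g⁻¹⁻¹ = x := by group
        rwa [h7] at h6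
      · obtain ⟨M, hM, hM'⟩ := h1.exists_max
        refine ⟨M.map (MulAut.conj g).toMonoidHom, ?_, fun K hSK hKP => ?_⟩
        · exact map_lt_of_inj (MulAut.conj g).injective hM
        · have h4 : K.map (MulAut.conj g⁻¹).toMonoidHom ≤ M := by
            refine hM' _ ?_ ?_
            · rw [← hginv]; exact map_mono hSK
            · rw [← hmm' P']
              exact map_lt_of_inj (MulAut.conj g⁻¹).injective hKP
          rw [← hmm K]
          exact map_mono h4
      · intro h4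
        apply h3
        have h5 := MinSimple.Geo.cj_o2 g P'
        have h6 : (o2 P').map (MulAut.conj g).toMonoidHom = ⊥ := h5.trans h4
        exact (Subgroup.map_eq_bot_iff_of_injective _ (MulAut.conj g).injective).mp h6
    refine le_normalizer_of fun g hg x hx => ?_
    have h1 : Y ≤ Y.comap (MulAut.conj g).toMonoidHom := by
      refine sSup_le fun P' hP' => ?_
      rw [← Subgroup.map_le_iff_le_comap]
      exact le_sSup (hS1 g hg P' hP')
    exact h1 hx
  -- the maximal 2-local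
  have hNYo : normalizer (Y : Set G) ≤ normalizer (o2 Y : Set G) := by
    intro y hy
    rw [mem_normalizer_iff_map_conj_eq]
    have h4 := MinSimple.Geo.cj_o2 y Y
    rw [show MinSimple.Geo.cj y (o2 Y) = (o2 Y).map (MulAut.conj y).toMonoidHom from rfl,
      MinSimple.Geo.cj_eq_of_mem_normalizer hy] at h4
    exact h4
  obtain ⟨M, hM, hNM⟩ := MinSimple.Basic.exists_maximal
    (MinSimple.Basic.isTwoLocal_normalizer (o2_isPGroup Y) hoY)
  have hYM : Y ≤ M := (le_normalizer_o2 Y).trans hNM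
  apply hC1
  refine ⟨M, hM, hSY.trans hYM, fun N hN hSN => ?_⟩
  exact MinSimple.Basic.le_of_forall_minPar S ((hNY.trans hNYo).trans hNM)
    (fun P' h1 h3 => (hPY P' h1 h3).trans hYM) (MinSimple.Basic.IsTwoLocal.o2_ne_bot hN) hSN

/-- Either `C_G(Z) ≤ N_G(S)` or there is a `Pair`. -/
theorem exists_pair (hyp : Hyp G) (S : Sylow 2 G)
    (hC1 : ¬ ∃ M : Subgroup G, IsMaximalTwoLocal M ∧ (S : Subgroup G) ≤ M ∧
      ∀ N : Subgroup G, IsTwoLocal N → (S : Subgroup G) ≤ N → N ≤ M)
    (hZ : ¬ centralizer (zc (S : Subgroup G) : Set G) ≤ normalizer ((S : Subgroup G) : Set G)) :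
    ∃ P1 P2 : Subgroup G, Pair (S : Subgroup G) P1 P2 := by
  have h2 : Fact (Nat.Prime 2) := ⟨Nat.prime_two⟩
  have hS : (S : Subgroup G) ≠ ⊥ := by
    intro h
    apply hZ
    rw [h, Subgroup.normalizer_eq_top]
    exact le_top
  have hz : zc (S : Subgroup G) ≠ ⊥ := MinSimple.Basic.zc_ne_bot S.isPGroup' hS
  set X := centralizer (zc (S : Subgroup G) : Set G) with hX
  have hzS : zc (S : Subgroup G) ≤ (S : Subgroup G) := zc_le _
  have hSX : (S : Subgroup G) ≤ X := by
    rw [hX, Subgroup.le_centralizer_iff]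
    exact MinSimple.VModule.zc_le_centralizer _
  -- there is a minimal parabolic in `X`
  have hex : ∃ P : Subgroup G, IsMinPar (S : Subgroup G) P ∧ P ≤ X := by
    by_contra hno
    push Not at hno
    apply hZ
    exact MinSimple.MinParabolic.le_of_forall hSX inf_le_right fun P h1 h3 => absurd h3 (hno P h1)
  obtain ⟨P2, hP2, hP2X⟩ := hex
  have hcent : P2 ≤ centralizer (zc (S : Subgroup G) : Set G) := hP2X
  have hzo : zc (S : Subgroup G) ≤ o2 P2 := by
    refine le_o2 (hzS.trans hP2.le) (S.isPGroup'.to_le hzS) ?_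
    refine le_normalizer_of fun t ht x hx => ?_
    have h3 : x * t = t * x := mem_centralizer_iff.mp (hcent ht) x hx
    rw [← h3, mul_inv_cancel_right]
    exact hx
  have hP2o : o2 P2 ≠ ⊥ := fun h => hz (le_bot_iff.mp (h ▸ hzo))
  obtain ⟨P1, hP1, hP1o, hnl⟩ := exists_partner hyp S hC1 hP2 hP2o
  exact ⟨P1, P2, hyp, ⟨S, rfl⟩, Par.exists_par hyp.rank hyp.locSolv hyp.char2 S hP1 hP1o,
    Par.exists_par hyp.rank hyp.locSolv hyp.char2 S hP2 hP2o, hcent,
    fun U hU h1 h3 => hnl U hU h3 h1⟩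

end Cfsg.Agent.SectRankFour.C2.LemmaT
end

-- part: SectRankFour/Core
section
set_option linter.all false
open scoped Cfsg.Agent.FastGrp

/-!
# S0517: simple groups of characteristic 2 type, solvable 2-locals, sectional 2-rank at most 4

Such a group of 2-rank at least 3 has a strongly embedded subgroup:

* the Sylow 2-subgroup `S` lies in a unique maximal 2-local: `MinSimple.CaseOneEnd.result`;
* `C_G(Ω₁Z(S)) ≤ N_G(S)`: S0518;
* otherwise there is a `Pair` (`LemmaT.exists_pair`), and `false_of_pair`.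
-/

set_option autoImplicit false

namespace Cfsg.Agent.SectRankFour.Core

open Subgroup Cfsg Cfsg.Agent.MinSimple.MinParabolic Cfsg.Agent.MinSimple.VModule
open Cfsg.Agent.ZN (o2 zc zl)
open Cfsg.Agent.SectRankFour.C2 Cfsg.Agent.SectRankFour.C2.Defs

universe u

variable {G : Type u} [Group G] [Finite G]

/-- There is no `Pair`. -/
theorem false_of_pair {S P1 P2 : Subgroup G} (h : Pair S P1 P2) : False := by
  obtain ⟨T, rfl⟩ := h.syl
  have hV := BOne.le_o2 h
  by_cases hc : ∀ x ∈ vh (T : Subgroup G) P1 P2, ∀ y ∈ vh (T : Subgroup G) P1 P2, x * y = y * x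
  · rcases BThree.main h hV hc with ⟨a, b, u, s, x, hconf⟩ | ⟨a, b, u, f, s, x, hconf⟩
    · exact Fin64.false h.hyp T hconf
    · exact FinAut.Pair.false_of_conf128 h hconf
  · obtain ⟨a, b, u, s, x, hconf⟩ := BTwoC.main h hV hc
    exact Fin64.false h.hyp T hconf

/-- **Core of S0517.** -/
theorem exists_stronglyEmbedded [hG : IsSimpleGroup G] (hna : ¬ IsMulCommutative G)
    (hL : Socle.LocSolv G) (h4 : SectionalPRankLE 2 4 G) (hr : ¬ PRankLE 2 2 G)
    (hchar : IsCharacteristicTwoType G) : ∃ H : Subgroup G, IsStronglyEmbedded H := by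
  by_contra hse
  push Not at hse
  have hfact : Fact (Nat.Prime 2) := ⟨Nat.prime_two⟩
  have hnab : ∃ a b : G, a * b ≠ b * a := by
    by_contra hcon
    push Not at hcon
    exact hna ⟨⟨hcon⟩⟩
  -- `G` is not a 2-group
  have hnp : ¬ IsPGroup 2 G := by
    intro hp
    obtain ⟨a, b, hab⟩ := hnab
    have h1 := hp.center_nontrivial
    rcases hG.eq_bot_or_eq_top_of_normal (center G) inferInstance with h2 | h2
    · rw [h2] at h1
      exact not_nontrivial _ h1
    · have : b ∈ center G := by rw [h2]; trivial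
      exact hab (mem_center_iff.mp this a)
  have hcore : pCore 2 G = ⊥ := by
    rcases hG.eq_bot_or_eq_top_of_normal _ (Lib.Cores.pCore_normal (G := G) 2) with h1 | h1
    · exact h1
    · exact absurd ((Lib.Cores.pCore_isPGroup (G := G) 2).of_equiv
        ((MulEquiv.subgroupCongr h1).trans Subgroup.topEquiv)) hnp
  have hidx : ∀ N : Subgroup G, N.Normal → N.index ≠ 2 := by
    intro N hN hi
    obtain ⟨a, b, hab⟩ := hnab
    rcases hG.eq_bot_or_eq_top_of_normal N hN with rfl | rfl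
    · rw [Subgroup.index_bot] at hi
      have : IsCyclic G := isCyclic_of_prime_card (p := 2) (hp := ⟨Nat.prime_two⟩) hi
      exact hab ((IsCyclic.isMulCommutative (α := G)).is_comm.comm a b)
    · rw [Subgroup.index_top] at hi
      omega
  have hyp : Hyp G := ⟨hG, hL, hchar, h4, hr⟩
  -- `C_G(Z) ≤ N_G(S)` for all `S`
  have hZ : ∀ S : Sylow 2 G,
      centralizer (zc (S : Subgroup G) : Set G) ≤ normalizer ((S : Subgroup G) : Set G) := by
    intro S
    by_contra hZ
    have hC1 : ¬ ∃ M : Subgroup G, IsMaximalTwoLocal M ∧ (S : Subgroup G) ≤ M ∧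
        ∀ N : Subgroup G, IsTwoLocal N → (S : Subgroup G) ≤ N → N ≤ M := by
      rintro ⟨M, hM, hSM, hall⟩
      exact hr (MinSimple.CaseOneEnd.result hchar hL hcore hidx hse S hM.1 hSM hall)
    obtain ⟨P1, P2, hP⟩ := LemmaT.exists_pair hyp S hC1 hZ
    exact false_of_pair hP
  have hZ' : ∀ S : Sylow 2 G,
      centralizer {z : G | z ∈ (S : Subgroup G) ∧ z ^ 2 = 1 ∧
        ∀ s ∈ (S : Subgroup G), s * z = z * s} ≤ normalizer ((S : Subgroup G) : Set G) := by
    intro S
    refine le_trans (centralizer_le ?_) (hZ S)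
    intro z hz
    obtain ⟨h5, h6, h7⟩ := mem_zc.mp hz
    exact ⟨h5, h7, h6⟩
  -- `G` is generated by its elements of odd order
  have htop : (⊤ : Subgroup G) = closure {g : G | Odd (orderOf g)} := by
    have hn : (closure {g : G | Odd (orderOf g)}).Normal := by
      refine ⟨fun x hx g => ?_⟩
      refine closure_induction (p := fun x _ => g * x * g⁻¹ ∈ closure {g : G | Odd (orderOf g)})
        ?_ ?_ ?_ ?_ hx
      · intro y hy
        refine subset_closure ?_
        show Odd (orderOf (g * y * g⁻¹))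
        have h5 : orderOf (g * y * g⁻¹) = orderOf y := by
          have := orderOf_injective (MulAut.conj g).toMonoidHom (MulAut.conj g).injective y
          simpa using this
        rw [h5]; exact hy
      · rw [mul_one, mul_inv_cancel]; exact one_mem _
      · intro x y _ _ h5 h6
        have h7 : g * (x * y) * g⁻¹ = (g * x * g⁻¹) * (g * y * g⁻¹) := by group
        rw [h7]; exact mul_mem h5 h6
      · intro x _ h5
        have h7 : g * x⁻¹ * g⁻¹ = (g * x * g⁻¹)⁻¹ := by group
        rw [h7]; exact inv_mem h5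
    rcases hG.eq_bot_or_eq_top_of_normal _ hn with h5 | h5
    · exfalso
      apply hnp
      rw [IsPGroup.iff_orderOf]
      intro g
      refine ⟨(orderOf g).factorization 2, ?_⟩
      set m := ordProj[2] (orderOf g) with hm
      have h6 : Odd (orderOf (g ^ m)) := by
        rw [orderOf_pow' g (pow_pos two_pos _).ne', Nat.gcd_eq_right (Nat.ordProj_dvd _ _)]
        have h7 := Nat.coprime_ordCompl Nat.prime_two (orderOf_pos g).ne'
        exact Nat.coprime_two_left.mp h7
      have h7 : g ^ m ∈ closure {g : G | Odd (orderOf g)} := subset_closure h6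
      rw [h5, mem_bot] at h7
      exact Nat.dvd_antisymm (orderOf_dvd_of_pow_eq_one h7) (Nat.ordProj_dvd _ _)
    · exact h5.symm
  rcases S0518.result hchar hcore hL hZ' ⊤ htop with h | ⟨M₁, M₂, -, hM₁, -, ⟨e⟩, -, -⟩
  · obtain ⟨K, hK⟩ := h
    exact hse K hK
  · apply hr
    have h5 := PermFour.pRankLE hM₁.1 e
    intro A hA hA2
    have hc : Nat.card (A.subgroupOf ⊤) = Nat.card A :=
      Nat.card_congr (Subgroup.subgroupOfEquivOfLe le_top).toEquiv
    rw [← hc]
    refine h5 _ ?_ ?_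
    · exact ⟨⟨fun x y => Subtype.ext (Subtype.ext (by
        have := congrArg Subtype.val (hA.is_comm.comm ⟨x.1.1, mem_subgroupOf.mp x.2⟩
          ⟨y.1.1, mem_subgroupOf.mp y.2⟩)
        exact this))⟩⟩
    · intro a ha
      exact Subtype.ext (hA2 a (mem_subgroupOf.mp ha))

end Cfsg.Agent.SectRankFour.Core
end
end
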